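import Cfsg.Agent.Lib.Char.PrimeDegreeTwoP.Exterior
import Cfsg.Agent.Lib.Char.Galois
import Cfsg.Agent.Lib.Char.Perm
import Cfsg.Agent.Lib.Char.Virtual
import Cfsg.Agent.Lib.PGroup.JordanPrime
import Mathlib.GroupTheory.Transfer

/-!
Primitive groups of degree `2p` which are not doubly transitive and have a Sylow normaliser of order `2p`:
the dihedral normaliser and the permutation character.
-/

set_option autoImplicit false
set_option linter.unusedSectionVars false
set_option linter.style.haveILetI false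

namespace CfsgLib.Char.PrimeDegreeTwoP

open scoped ComplexConjugate
open Cfsg MulAction

universe u v

variable {G : Type u} [Group G] [Fintype G]

/-- Values invariant under all power maps prime to the order are integers. -/
theorem exists_int_of_invariant {χ : G → ℂ} (hχ : IsCharacter G χ)
    (ht : ∀ a : ℕ, (Nat.card G).Coprime a → ∀ x, χ (x ^ a) = χ x) (g : G) : ∃ z : ℤ, χ g = z := by
  refine exists_int_of_fixed (isCharacter_isIntegral hχ g) fun φ => ?_
  obtain ⟨m, hm, h⟩ := exists_char_twist (G := G) φ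
  rw [h χ hχ g ⟨χ g, mem_alg_of_isIntegral (isCharacter_isIntegral hχ g)⟩ rfl, ht m hm.symm]

/-- Power maps prime to the group order realise every unit modulo a divisor. -/
theorem exists_lift {n : ℕ} (hn : n ∣ Nat.card G) (k : (ZMod n)ˣ) :
    ∃ a : ℕ, (Nat.card G).Coprime a ∧ (a : ZMod n) = k := by
  haveI : NeZero (Nat.card G) := ⟨Nat.card_pos.ne'⟩
  obtain ⟨u, hu⟩ := ZMod.unitsMap_surjective hn k
  refine ⟨(u : ZMod (Nat.card G)).val, Nat.Coprime.symm (ZMod.val_coe_unit_coprime u), ?_⟩
  rw [← hu, ZMod.unitsMap_val, ZMod.cast_eq_val]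

/-- An invariant function takes equal values at an element of odd order and at its square. -/
theorem apply_sq_of_odd {χ : G → ℂ} (ht : ∀ a : ℕ, (Nat.card G).Coprime a → ∀ x, χ (x ^ a) = χ x)
    {g : G} (hg : Odd (orderOf g)) : χ (g * g) = χ g := by
  obtain ⟨a, ha, ha2⟩ := exists_lift (orderOf_dvd_natCard g)
    (ZMod.unitOfCoprime 2 ((Nat.coprime_two_left).2 hg))
  have e : g * g = g ^ a := by
    rw [← pow_two, pow_eq_pow_iff_modEq, ← ZMod.natCast_eq_natCast_iff, ha2, ZMod.coe_unitOfCoprime]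
  rw [e, ht a ha]

variable {α : Type v} [Fintype α] [MulAction G α]

theorem fixedBy_pow' {a : ℕ} (ha : (Nat.card G).Coprime a) (g : G) :
    fixedBy α (g ^ a) = fixedBy α g := by
  ext x
  rw [mem_fixedBy, mem_fixedBy, MulAction.pow_smul_eq_iff_period_dvd]
  refine ⟨fun h => ?_, fun h => ?_⟩
  · have h1 : period g x ∣ Nat.card G := (period_dvd_orderOf g x).trans (orderOf_dvd_natCard g)
    have h2 := Nat.eq_one_of_dvd_coprimes ha h1 h
    rw [← pow_one g, MulAction.pow_smul_eq_iff_period_dvd, h2]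
  · have h1 : period g x ∣ 1 := by rwa [← MulAction.pow_smul_eq_iff_period_dvd, pow_one]
    rw [Nat.dvd_one.1 h1]
    exact one_dvd _

/-- Orbits on ordered pairs are orbits of a point stabiliser. -/
theorem card_orbits_prod [IsPretransitive G α] (a : α) :
    Nat.card (orbitRel.Quotient G (α × α)) = Nat.card (orbitRel.Quotient (stabilizer G a) α) := by
  refine (Nat.card_eq_of_bijective (Quotient.map (fun x => ((a, x) : α × α)) ?_) ⟨?_, ?_⟩).symm
  · intro x y h
    change x ∈ orbit (stabilizer G a) y at h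
    change ((a, x) : α × α) ∈ orbit G ((a, y) : α × α)
    obtain ⟨k, hk⟩ := h
    exact ⟨(k : G), Prod.ext k.2 hk⟩
  · rintro ⟨x⟩ ⟨y⟩ h
    have h' := Quotient.exact h
    change ((a, x) : α × α) ∈ orbit G ((a, y) : α × α) at h'
    obtain ⟨g, hg⟩ := h'
    exact Quotient.sound ⟨⟨g, congrArg Prod.fst hg⟩, congrArg Prod.snd hg⟩
  · rintro ⟨x, y⟩
    obtain ⟨g, hg⟩ := exists_smul_eq G x a
    exact ⟨Quotient.mk _ (g • y), Quotient.sound ⟨g, Prod.ext hg rfl⟩⟩

end CfsgLib.Char.PrimeDegreeTwoP

namespace CfsgLib.Char.PrimeDegreeTwoP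

open scoped ComplexConjugate
open Cfsg MulAction

universe u

variable {α : Type u} [Fintype α] [DecidableEq α] {p : ℕ} [hpf : Fact p.Prime]

/-- The normaliser is dihedral and the elements of order `p` fix nothing. -/
theorem exists_dih_double (hp : 3 < p) (hα : Fintype.card α = 2 * p) (G : Subgroup (Equiv.Perm α))
    (hprim : IsPreprimitive G α) (hnot2 : ¬ IsMultiplyPretransitive G α 2) (P : Sylow p G)
    (hN : Nat.card (Subgroup.normalizer ((P : Subgroup G) : Set G)) = 2 * p) :
    ∃ c t : G, Dih c p ∧ (P : Subgroup G) = Subgroup.zpowers c ∧ t * t = 1 ∧ t * c * t⁻¹ = c⁻¹ ∧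
      ∀ (j : (ZMod p)ˣ) (x : α), c ^ (j : ZMod p).val • x ≠ x := by
  classical
  have hp2 : p ≠ 2 := by omega
  have hP : Nat.card (P : Subgroup G) = p := by
    obtain ⟨n, hn⟩ := IsPGroup.iff_card.1 P.2
    have h1 : p ^ n ∣ 2 * p := hn ▸ hN ▸ Subgroup.card_dvd_of_le Subgroup.le_normalizer
    have h2 : p ∣ Nat.card (P : Subgroup G) := P.dvd_card_of_dvd_card
      ((hN ▸ dvd_mul_left p 2).trans (Subgroup.card_subgroup_dvd_card _))
    rcases n with _ | _ | n
    · rw [hn, pow_zero, Nat.dvd_one] at h2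
      exact absurd h2 hpf.out.ne_one
    · rw [hn, pow_one]
    · have h3 : p * p ∣ 2 * p := (Dvd.intro (p ^ n) (by ring)).trans h1
      exact absurd (Nat.le_of_dvd two_pos (Nat.dvd_of_mul_dvd_mul_right hpf.out.pos h3)) (by omega)
  obtain ⟨⟨c, hcP⟩, hc⟩ := exists_prime_orderOf_dvd_card' (G := (P : Subgroup G)) p (by rw [hP])
  rw [← Subgroup.orderOf_coe] at hc
  replace hc : orderOf c = p := hc
  have hPc : (P : Subgroup G) = Subgroup.zpowers c :=
    (Subgroup.eq_of_le_of_card_ge (Subgroup.zpowers_le.2 hcP) (by rw [Nat.card_zpowers, hc, hP])).symm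
  set N := Subgroup.normalizer ((P : Subgroup G) : Set G) with hNdef
  haveI : Fact (Nat.Prime 2) := ⟨Nat.prime_two⟩
  obtain ⟨⟨t, htN⟩, ht⟩ := exists_prime_orderOf_dvd_card' (G := N) 2 (by rw [hN]; exact dvd_mul_right 2 p)
  rw [← Subgroup.orderOf_coe] at ht
  replace ht : orderOf t = 2 := ht
  have htt : t * t = 1 := by rw [← pow_two, ← ht]; exact pow_orderOf_eq_one t
  obtain ⟨i, hi⟩ : ∃ i : ℕ, c ^ i = t * c * t⁻¹ := by
    have h := (Subgroup.mem_normalizer_iff.1 htN c).1 hcP
    change t * c * t⁻¹ ∈ (P : Subgroup G) at h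
    rw [hPc] at h
    exact Submonoid.mem_powers_iff _ _ |>.1 ((isOfFinOrder_of_finite c).mem_powers_iff_mem_zpowers.2 h)
  have hi2 : ((i : ZMod p)) ^ 2 = 1 := by
    have h : c ^ (i * i) = c ^ 1 := by
      rw [pow_mul, hi, conj_pow, hi, pow_one]
      have e : t⁻¹ = t := inv_eq_of_mul_eq_one_right htt
      rw [e]
      simp only [← mul_assoc, htt, one_mul]
      rw [mul_assoc, htt, mul_one]
    rw [pow_eq_pow_iff_modEq, hc, ← ZMod.natCast_eq_natCast_iff] at h
    rw [pow_two]
    push_cast at h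
    exact h
  have hne : ¬ Commute t c := by
    intro hcomm
    set C := Subgroup.centralizer ({c} : Set G) ⊓ N
    have hPC : (P : Subgroup G) ≤ C := le_inf (by
      rw [hPc, Subgroup.zpowers_le, Subgroup.mem_centralizer_singleton_iff]) Subgroup.le_normalizer
    have htC : Subgroup.zpowers t ≤ C := Subgroup.zpowers_le.2
      ⟨Subgroup.mem_centralizer_singleton_iff.2 hcomm.eq, htN⟩
    have h1 : p ∣ Nat.card C := hP ▸ Subgroup.card_dvd_of_le hPC
    have h2 : 2 ∣ Nat.card C := by
      have := Subgroup.card_dvd_of_le htC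
      rwa [Nat.card_zpowers, ht] at this
    have h3 : 2 * p ∣ Nat.card C :=
      Nat.Coprime.mul_dvd_of_dvd_of_dvd ((Nat.coprime_primes Nat.prime_two hpf.out).2 (Ne.symm hp2)) h2 h1
    have hCN : C = N := Subgroup.eq_of_le_of_card_ge inf_le_right (hN.trans_le (Nat.le_of_dvd Nat.card_pos h3))
    have hcen : N ≤ Subgroup.centralizer ((P : Subgroup G) : Set G) := by
      intro y hy
      rw [Subgroup.mem_centralizer_iff]
      intro z hz
      rw [SetLike.mem_coe, hPc, Subgroup.mem_zpowers_iff] at hz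
      obtain ⟨k, rfl⟩ := hz
      exact ((Commute.zpow_right (Subgroup.mem_centralizer_singleton_iff.1 (hCN.ge hy).1) k).eq).symm
    have hcompl := MonoidHom.ker_transferSylow_isComplement' P hcen
    set K := (MonoidHom.transferSylow P hcen).ker
    have hKP := hcompl.card_mul
    rw [hP] at hKP
    have hnd : ¬ p ∣ Nat.card K := MonoidHom.not_dvd_card_ker_transferSylow P hcen
    haveI := hprim
    obtain ⟨a₀⟩ : Nonempty α := Fintype.card_pos_iff.1 (by omega)
    have hcα : Nat.card α = 2 * p := by rw [Nat.card_eq_fintype_card, hα]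
    have htr := (index_stabilizer_of_transitive G a₀).trans hcα
    have h2pG : 2 * p ∣ Nat.card G := htr ▸ Subgroup.index_dvd_card _
    have hK : K ≠ ⊥ := fun h => by
      rw [h, Subgroup.card_bot, one_mul] at hKP
      rw [← hKP] at h2pG
      have := Nat.le_of_dvd hpf.out.pos h2pG
      omega
    haveI : IsPretransitive K α := by
      apply IsQuasiPreprimitive.isPretransitive_of_normal
      intro hall
      refine hK ((Subgroup.eq_bot_iff_forall _).2 fun k hk => Subtype.ext (Equiv.ext fun y => ?_))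
      have hy : y ∈ fixedPoints K α := hall ▸ Set.mem_univ y
      exact hy ⟨k, hk⟩
    have h4 := (index_stabilizer_of_transitive K a₀).trans hcα
    exact hnd ((dvd_mul_left p 2).trans (h4 ▸ Subgroup.index_dvd_card _))
  have hrefl : t * c * t⁻¹ = c⁻¹ := by
    have h1 : ((i : ZMod p) - 1) * ((i : ZMod p) + 1) = 0 := by linear_combination hi2
    rcases mul_eq_zero.1 h1 with h | h
    · exfalso
      rw [sub_eq_zero, ← Nat.cast_one, ZMod.natCast_eq_natCast_iff] at h
      have h' : c ^ i = c := by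
        conv_rhs => rw [← pow_one c]
        rw [pow_eq_pow_iff_modEq, hc]
        exact h
      rw [h', eq_mul_inv_iff_mul_eq] at hi
      exact hne hi.symm
    · rw [← hi, eq_inv_iff_mul_eq_one, ← pow_succ, ← orderOf_dvd_iff_pow_eq_one, hc,
        ← ZMod.natCast_eq_zero_iff]
      push_cast
      exact h
  refine ⟨c, t, ⟨hpf.out, hp2, hc, by rw [← hPc]; exact hN, t, hrefl⟩, hPc, htt, hrefl, fun j y hy => ?_⟩
  set g := c ^ (j : ZMod p).val
  have hg1 : g ≠ 1 := pow_unit_ne_one (p := p) ⟨hpf.out, hp2, hc, by rw [← hPc]; exact hN, t, hrefl⟩ j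
  have hgp : g ^ p = 1 := by rw [← pow_mul, mul_comm, pow_mul, orderOf_dvd_iff_pow_eq_one.1 hc.dvd, one_pow]
  have ho : orderOf (g : Equiv.Perm α) = p := by rw [Subgroup.orderOf_coe]; exact orderOf_eq_prime hgp hg1
  have hlt : (g : Equiv.Perm α).support.card < 2 * p := by
    rw [← hα]
    exact Finset.card_lt_univ_of_notMem (x := y) fun e => Equiv.Perm.mem_support.1 e hy
  have hcy : (g : Equiv.Perm α).IsCycle :=
    Equiv.Perm.isCycle_of_prime_order (by rw [ho]; exact hpf.out) (by rw [ho]; exact hlt)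
  have hle : alternatingGroup α ≤ G := CfsgLib.PGroup.alternatingGroup_le_of_prime_cycle hprim g.2 hcy hpf.out
    (by rw [← hcy.orderOf, ho]) (by rw [Nat.card_eq_fintype_card, hα]; omega)
  apply hnot2
  haveI := alternatingGroup.isMultiplyPretransitive α
  have h2 : IsMultiplyPretransitive (alternatingGroup α) α 2 :=
    isMultiplyPretransitive_of_le (n := Nat.card α - 2)
      (by rw [Nat.card_eq_fintype_card, hα]; omega) (by rw [Nat.card_eq_fintype_card, hα]; omega)
  rw [is_two_pretransitive_iff] at h2 ⊢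
  intro a b c d hab hcd
  obtain ⟨k, hk1, hk2⟩ := h2 hab hcd
  exact ⟨⟨k, hle k.2⟩, hk1, hk2⟩

end CfsgLib.Char.PrimeDegreeTwoP
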