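import Cfsg.Agent.Lib.Char.PrimeDegreeTwoP.DoubleSetup
import Cfsg.Agent.Lib.Char.SquareChar
import Cfsg.Agent.Lib.Char.PGroupChar

/-!
The rank three permutation character in degree `2p` splits as `1 + (p - 1) + p`.
-/

set_option autoImplicit false
set_option linter.unusedSectionVars false
set_option linter.style.haveILetI false

namespace CfsgLib.Char.PrimeDegreeTwoP

open scoped ComplexConjugate
open Cfsg MulAction

universe u

variable {G : Type u} [Group G] [Fintype G]

/-- The alternating square of a real irreducible character against the trivial one. -/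
theorem alt_inner (χ : IrrCharacter G) (hr : ∀ x, conj ((χ : G → ℂ) x) = (χ : G → ℂ) x) :
    ((∑ x : G, (χ : G → ℂ) (x * x)) = (Nat.card G : ℂ) ∧
      classInner (fun x => ((χ : G → ℂ) x * (χ : G → ℂ) x - (χ : G → ℂ) (x * x)) / 2) (fun _ => 1) = 0) ∨
      (∑ x : G, (χ : G → ℂ) (x * x)) = -(Nat.card G : ℂ) := by
  set f : G → ℂ := (χ : G → ℂ)
  have hone : IsCharacter G (fun _ : G => (1 : ℂ)) := isCharacter_of_isIrr isIrrCharacter_one
  obtain ⟨a, ha⟩ := classInner_isCharacter (isCharacter_altSquare (isCharacter_irr χ)) hone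
  obtain ⟨b, hb⟩ := classInner_isCharacter (isCharacter_symSquare (isCharacter_irr χ)) hone
  have hcard : (Nat.card G : ℂ) ≠ 0 := Nat.cast_ne_zero.2 Nat.card_pos.ne'
  have hsum : ((a + b : ℕ) : ℂ) = 1 := by
    rw [Nat.cast_add, ← ha, ← hb]
    refine Eq.trans ?_ (classInner_irr_self χ)
    rw [classInner, classInner, classInner, ← mul_add, ← Finset.sum_add_distrib]
    congr 1
    refine Finset.sum_congr rfl fun x _ => ?_
    simp only [map_one]
    linear_combination -(f x) * hr x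
  have hdiff : (b : ℂ) - a = (Nat.card G : ℂ)⁻¹ * ∑ x : G, f (x * x) := by
    rw [← ha, ← hb, classInner, classInner, ← mul_sub, ← Finset.sum_sub_distrib]
    congr 1
    refine Finset.sum_congr rfl fun x _ => ?_
    simp only [map_one, f]
    ring
  have hab : a + b = 1 := by exact_mod_cast hsum
  rw [eq_inv_mul_iff_mul_eq₀ hcard] at hdiff
  rcases Nat.eq_zero_or_pos a with h0 | h0
  · left
    rw [h0, show b = 1 by omega] at hdiff
    exact ⟨by rw [← hdiff]; push_cast; ring, by rw [ha, h0, Nat.cast_zero]⟩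
  · right
    rw [show a = 1 by omega, show b = 0 by omega] at hdiff
    rw [← hdiff]
    push_cast
    ring

end CfsgLib.Char.PrimeDegreeTwoP

namespace CfsgLib.Char.PrimeDegreeTwoP

open scoped ComplexConjugate
open Cfsg MulAction

universe u

variable {α : Type u} [Fintype α] [DecidableEq α] {p : ℕ} [hpf : Fact p.Prime]

/-- The constituent of degree `p - 1`. -/
theorem exists_rho (hp : 3 < p) (hα : Fintype.card α = 2 * p) (G : Subgroup (Equiv.Perm α))
    (hprim : IsPreprimitive G α) (a₀ : α)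
    (hrank : Nat.card (orbitRel.Quotient (stabilizer G a₀) α) = 3) [Fintype G]
    {c t : G} (D : Dih c p) (hts : t * c * t⁻¹ = c⁻¹) (htt : t * t = 1)
    (hfree : ∀ (j : (ZMod p)ˣ) (x : α), c ^ (j : ZMod p).val • x ≠ x) :
    ∃ ρ : IrrCharacter G, (∀ j : (ZMod p)ˣ, (ρ : G → ℂ) (c ^ (j : ZMod p).val) = -1) ∧
      (ρ : G → ℂ) 1 = (p : ℂ) - 1 ∧
      (∀ a : ℕ, (Nat.card G).Coprime a → ∀ x, (ρ : G → ℂ) (x ^ a) = (ρ : G → ℂ) x) ∧
      classInner (fun x => ((ρ : G → ℂ) x * (ρ : G → ℂ) x - (ρ : G → ℂ) (x * x)) / 2) (fun _ => 1) = 0 ∧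
      ∀ g : G, (ρ : G → ℂ) g = (ρ : G → ℂ) 1 → g = 1 := by
  classical
  haveI := hprim
  haveI := Fintype.ofFinite (IrrCharacter G)
  set one : IrrCharacter G := ⟨fun _ => 1, isIrrCharacter_one⟩ with hone
  set π : G → ℂ := permChar G α with hπ
  have hcα : Nat.card α = 2 * p := by rw [Nat.card_eq_fintype_card, hα]
  have hπ1 : π 1 = 2 * (p : ℂ) := by
    rw [hπ, permChar, Nat.card_congr (Equiv.subtypeUnivEquiv fun x => show x ∈ fixedBy α (1 : G) from one_smul G x),
      hcα]
    push_cast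
    ring
  have hπo : classInner π (fun _ => 1) = 1 := by
    rw [hπ, classInner_permChar_one]
    haveI : Subsingleton (orbitRel.Quotient G α) :=
      MulAction.pretransitive_iff_subsingleton_quotient G α |>.1 inferInstance
    haveI : Nonempty (orbitRel.Quotient G α) := ⟨Quotient.mk _ a₀⟩
    rw [Nat.card_unique, Nat.cast_one]
  have hππ : classInner π π = 3 := by
    rw [hπ, classInner_permChar_self, card_orbits_prod a₀, hrank]
    norm_num
  set f : G → ℂ := π - fun _ => 1 with hf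
  have hff : classInner f f = 2 := by
    have h1 : classInner (fun _ : G => (1 : ℂ)) π = 1 := by rw [← classInner_conj, hπo, map_one]
    rw [hf, classInner_sub_left, classInner_sub_right, classInner_sub_right, hππ, hπo, h1,
      show classInner (fun _ : G => (1 : ℂ)) (fun _ => 1) = 1 from classInner_irr_self one]
    norm_num
  have hfcl : IsClassFunction G f :=
    isClassFunction_of_isGeneralized (isGeneralizedCharacter_sub
      (isGeneralizedCharacter_of_isCharacter (isCharacter_permChar α))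
      (isGeneralizedCharacter_of_isCharacter (isCharacter_irr one)))
  have hn : ∀ χ : IrrCharacter G, ∃ n : ℕ, classInner f (χ : G → ℂ) = n ∧ (χ = one → n = 0) := by
    intro χ
    obtain ⟨k, hk⟩ := classInner_char_irr_nat (isCharacter_permChar (G := G) α) χ
    by_cases h : χ = one
    · refine ⟨0, ?_, fun _ => rfl⟩
      rw [h, hf, classInner_sub_left, show classInner π (one : G → ℂ) = 1 from hπo,
        show classInner (fun _ : G => (1 : ℂ)) (one : G → ℂ) = 1 from classInner_irr_self one, sub_self,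
        Nat.cast_zero]
    · refine ⟨k, ?_, fun h' => absurd h' h⟩
      rw [hf, classInner_sub_left, hk,
        show classInner (fun _ : G => (1 : ℂ)) (χ : G → ℂ) = 0 from classInner_irr_ne (Ne.symm h), sub_zero]
  choose n hn hn0 using hn
  have hexp : ∀ x, f x = ∑ χ : IrrCharacter G, (n χ : ℂ) * (χ : G → ℂ) x := fun x => by
    conv_lhs => rw [classFun_expand hfcl]
    rw [Finset.sum_apply]
    exact Finset.sum_congr rfl fun χ _ => by rw [Pi.smul_apply, smul_eq_mul, hn]
  have hnorm : ∑ χ : IrrCharacter G, n χ ^ 2 = 2 := by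
    have h : classInner f f = ∑ χ : IrrCharacter G, (n χ : ℂ) * (n χ : ℂ) := by
      conv_lhs => arg 2; rw [classFun_expand hfcl]
      rw [classInner_sum_right]
      refine Finset.sum_congr rfl fun χ _ => ?_
      rw [classInner_smul_right, hn, map_natCast]
    rw [hff] at h
    have h' : ((∑ χ : IrrCharacter G, n χ ^ 2 : ℕ) : ℂ) = ((2 : ℕ) : ℂ) := by
      push_cast
      rw [h]
      exact Finset.sum_congr rfl fun χ _ => pow_two _
    exact_mod_cast h'
  have hn1 : ∀ χ, n χ ≤ 1 := fun χ => by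
    by_contra h
    have h1 := Finset.single_le_sum (fun ξ _ => Nat.zero_le (n ξ ^ 2)) (Finset.mem_univ χ)
    rw [hnorm] at h1
    nlinarith
  have hcard : (Finset.univ.filter fun χ => n χ = 1).card = 2 := by
    rw [← hnorm, Finset.card_filter]
    refine Finset.sum_congr rfl fun χ _ => ?_
    rcases Nat.le_one_iff_eq_zero_or_eq_one.1 (hn1 χ) with h | h <;> simp [h]
  obtain ⟨χ₁, χ₂, h12, hset⟩ := Finset.card_eq_two.1 hcard
  have hn12 : ∀ χ, n χ = 1 ↔ χ = χ₁ ∨ χ = χ₂ := fun χ => by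
    have := Finset.ext_iff.1 hset χ
    simpa using this
  have hfsum : ∀ x, f x = (χ₁ : G → ℂ) x + (χ₂ : G → ℂ) x := fun x => by
    rw [hexp x, ← Finset.sum_filter_add_sum_filter_not _ (fun χ => n χ = 1), hset, Finset.sum_pair h12,
      (hn12 χ₁).2 (Or.inl rfl), (hn12 χ₂).2 (Or.inr rfl),
      Finset.sum_eq_zero fun χ hχ => by
        rw [(Nat.le_one_iff_eq_zero_or_eq_one.1 (hn1 χ)).resolve_right (Finset.mem_filter.1 hχ).2]
        simp]
    simp
  obtain ⟨d₁, hd₁0, hd₁⟩ := isIrrCharacter_degree χ₁.2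
  obtain ⟨d₂, hd₂0, hd₂⟩ := isIrrCharacter_degree χ₂.2
  have hdsum : d₁ + d₂ + 1 = 2 * p := by
    have h := hfsum 1
    rw [hd₁, hd₂, hf, Pi.sub_apply, hπ1] at h
    have h' : ((d₁ + d₂ + 1 : ℕ) : ℂ) = ((2 * p : ℕ) : ℂ) := by push_cast; linear_combination -h
    exact_mod_cast h'
  have hfpow : ∀ (a : ℕ), (Nat.card G).Coprime a → ∀ x, f (x ^ a) = f x := fun a ha x => by
    simp only [hf, Pi.sub_apply, hπ, permChar, fixedBy_pow' ha]
  have hinv : ∀ χ : IrrCharacter G, n χ = 1 → ∀ a : ℕ, (Nat.card G).Coprime a →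
      ∀ x, (χ : G → ℂ) (x ^ a) = (χ : G → ℂ) x := by
    intro χ hχ a ha
    have h : (n (tw χ ha) : ℂ) = n χ := by
      have h1 := classInner_powMap ha f (χ : G → ℂ)
      simp only [hfpow a ha] at h1
      rw [← hn, ← hn]
      exact h1
    have hmem : tw χ ha = χ₁ ∨ tw χ ha = χ₂ := (hn12 _).1 (by rw [hχ] at h; exact_mod_cast h)
    have hdeg : (tw χ ha : G → ℂ) 1 = (χ : G → ℂ) 1 := by rw [tw_apply, one_pow]
    have hsame : tw χ ha = χ := by
      rcases (hn12 χ).1 hχ with e | e <;> rcases hmem with e' | e' <;> rw [e'] at hdeg ⊢ <;> rw [e] at hdeg ⊢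
      · exfalso
        rw [hd₂, hd₁] at hdeg
        have : d₂ = d₁ := by exact_mod_cast hdeg
        omega
      · exfalso
        rw [hd₂, hd₁] at hdeg
        have : d₁ = d₂ := by exact_mod_cast hdeg
        omega
    intro x
    exact congrFun (congrArg Subtype.val hsame) x
  have hint : ∀ χ : IrrCharacter G, n χ = 1 → ∀ x, ∃ z : ℤ, (χ : G → ℂ) x = z :=
    fun χ hχ => exists_int_of_invariant (isCharacter_irr χ) (hinv χ hχ)
  obtain ⟨m, hm⟩ : Odd p := hpf.out.odd_of_ne_two (by omega)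
  have hconst : ∀ χ : IrrCharacter G, n χ = 1 → ∀ j : (ZMod p)ˣ,
      (χ : G → ℂ) (c ^ (j : ZMod p).val) = (χ : G → ℂ) c := by
    intro χ hχ j
    obtain ⟨a, ha, hak⟩ := exists_coprime_lift D j
    rw [← pow_cast D (a := a) (by rw [hak, ZMod.natCast_zmod_val]), hinv χ hχ a ha]
  obtain ⟨v₁, hv₁⟩ := hint χ₁ ((hn12 χ₁).2 (Or.inl rfl)) c
  obtain ⟨v₂, hv₂⟩ := hint χ₂ ((hn12 χ₂).2 (Or.inr rfl)) c
  have hvsum : v₁ + v₂ = -1 := by
    have h := hfsum c
    have hz : π c = 0 := by
      have h1 := hfree 1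
      rw [show c ^ (((1 : (ZMod p)ˣ) : ZMod p)).val = c by
        rw [Units.val_one, ZMod.val_one, pow_one]] at h1
      rw [hπ, permChar, Nat.card_eq_zero.2 (Or.inl ⟨fun x => h1 x.1 x.2⟩), Nat.cast_zero]
    rw [hv₁, hv₂, hf, Pi.sub_apply, hz] at h
    have h' : ((v₁ + v₂ : ℤ) : ℂ) = ((-1 : ℤ) : ℂ) := by push_cast; linear_combination -h
    exact_mod_cast h'
  have htot : ∀ χ : IrrCharacter G, n χ = 1 → tot (χ : G → ℂ) c p = ((p : ℂ) - 1) * (χ : G → ℂ) c :=
    fun χ hχ => tot_of_const D (hconst χ hχ)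
  -- the norm of the class function
  have hC : ∀ χ : IrrCharacter G, ∃ z : ℤ, classInner (χ : G → ℂ) (phi c p) = z := fun χ => by
    obtain ⟨z, hz⟩ := tot_dvd D χ
    obtain ⟨k, hk⟩ := even_card_fix D.two (neg_one_mem D χ)
    refine ⟨(k : ℤ) * z, ?_⟩
    rw [inner_phi D (isClassFunction_irr χ), hz, hk]
    push_cast
    ring
  choose cf hcf using hC
  have hnormφ : ∑ χ : IrrCharacter G, cf χ ^ 2 = (p : ℤ) * m := by
    have hφ : phi c p = ∑ χ : IrrCharacter G, (cf χ : ℂ) • (χ : G → ℂ) := by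
      conv_lhs => rw [classFun_expand (f := phi c p) (isClassFunction_indFun _ _)]
      refine Finset.sum_congr rfl fun χ _ => ?_
      rw [← classInner_conj, hcf, map_intCast]
    have h2 := inner_phi_self D
    conv at h2 =>
      lhs
      arg 2
      rw [hφ]
    rw [classInner_sum_right] at h2
    simp only [classInner_smul_right, map_intCast] at h2
    have h3 : ∀ χ : IrrCharacter G, classInner (phi c p) (χ : G → ℂ) = (cf χ : ℂ) := fun χ => by
      rw [← classInner_conj, hcf, map_intCast]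
    simp only [h3] at h2
    have h4 : ((∑ χ : IrrCharacter G, cf χ ^ 2 : ℤ) : ℂ) = (((p : ℤ) * m : ℤ) : ℂ) := by
      push_cast
      simp only [sq]
      rw [h2, hm]
      push_cast
      ring
    exact_mod_cast h4
  have hcone : cf one = m := by
    have h := hcf one
    rw [inner_phi D (isClassFunction_irr one), tot_of_const D (a := 1) (fun j => rfl), hm] at h
    have h' : ((cf one : ℤ) : ℂ) = ((m : ℤ) : ℂ) := by rw [← h]; push_cast; ring
    exact_mod_cast h'
  have hcfv : ∀ (χ : IrrCharacter G) (v : ℤ), n χ = 1 → (χ : G → ℂ) c = v → cf χ = (m : ℤ) * v := by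
    intro χ v hχ hv
    have h := hcf χ
    rw [inner_phi D (isClassFunction_irr χ), htot χ hχ, hv, hm] at h
    have h' : ((cf χ : ℤ) : ℂ) = (((m : ℤ) * v : ℤ) : ℂ) := by rw [← h]; push_cast; ring
    exact_mod_cast h'
  have hne1 : χ₁ ≠ one := fun e => by
    have := hn0 χ₁ e
    rw [(hn12 χ₁).2 (Or.inl rfl)] at this
    exact one_ne_zero this
  have hne2 : χ₂ ≠ one := fun e => by
    have := hn0 χ₂ e
    rw [(hn12 χ₂).2 (Or.inr rfl)] at this
    exact one_ne_zero this
  have hv01 : (v₁ = 0 ∧ v₂ = -1) ∨ (v₁ = -1 ∧ v₂ = 0) := by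
    have h := Finset.sum_le_sum_of_subset_of_nonneg (Finset.subset_univ ({one, χ₁, χ₂} : Finset (IrrCharacter G)))
      fun ξ _ _ => sq_nonneg (cf ξ)
    rw [hnormφ, Finset.sum_insert (by simp [Ne.symm hne1, Ne.symm hne2]), Finset.sum_pair h12, hcone,
      hcfv χ₁ v₁ ((hn12 χ₁).2 (Or.inl rfl)) hv₁, hcfv χ₂ v₂ ((hn12 χ₂).2 (Or.inr rfl)) hv₂] at h
    have hm2 : (2 : ℤ) ≤ m := by omega
    have hb : v₁ ^ 2 + v₂ ^ 2 ≤ 1 := by
      by_contra hlt
      have h2' : (2 : ℤ) ≤ v₁ ^ 2 + v₂ ^ 2 := by omega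
      have hpz : (p : ℤ) = 2 * m + 1 := by exact_mod_cast hm
      rw [hpz] at h
      nlinarith [mul_le_mul_of_nonneg_left h2' (sq_nonneg (m : ℤ))]
    have hv2 : v₂ = -1 - v₁ := by omega
    subst hv2
    have h0 : v₁ * (v₁ + 1) ≤ 0 := by nlinarith
    have : v₁ = 0 ∨ v₁ = -1 := by
      by_contra hc
      push_neg at hc
      rcases lt_or_ge v₁ 0 with hneg | hpos
      · have : v₁ ≤ -2 := by omega
        nlinarith
      · have : 1 ≤ v₁ := by omega
        nlinarith
    omega
  -- degrees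
  have hdvd : ∀ (χ : IrrCharacter G) (d : ℕ), n χ = 1 → (χ : G → ℂ) 1 = d → (χ : G → ℂ) c = 0 → p ∣ d := by
    intro χ d hχ hd hv
    obtain ⟨k, hk⟩ := classInner_isCharacter (G := Subgroup.zpowers c)
      (isCharacter_comp (isCharacter_irr χ) (Subgroup.zpowers c).subtype) (isCharacter_of_isIrr isIrrCharacter_one)
    rw [classInner, Nat.card_zpowers, D.ord] at hk
    simp only [map_one, mul_one] at hk
    have hz : ∀ q : Subgroup.zpowers c, q ≠ 1 → (χ : G → ℂ) q = 0 := fun q hq => by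
      obtain ⟨j, hj⟩ := zpowers_cases D q q.2 fun e => hq (Subtype.ext e)
      rw [← hj, hconst χ hχ j, hv]
    have hs : ∑ q : Subgroup.zpowers c, (χ : G → ℂ) ((Subgroup.zpowers c).subtype q) = d := by
      refine (Finset.sum_eq_single (1 : Subgroup.zpowers c) (fun q _ hq => hz q hq)
        (fun h => absurd (Finset.mem_univ _) h)).trans ?_
      show (χ : G → ℂ) ((1 : Subgroup.zpowers c) : G) = _
      rw [Subgroup.coe_one, hd]
    have hk' : ((d : ℕ) : ℂ) = ((p * k : ℕ) : ℂ) := by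
      rw [Nat.cast_mul, ← hk, ← mul_assoc, mul_inv_cancel₀ (Nat.cast_ne_zero.2 hpf.out.ne_zero), one_mul, hs]
    exact ⟨k, by exact_mod_cast hk'⟩
  have hmain : ∀ (ρ χ : IrrCharacter G) (dρ dχ : ℕ), n ρ = 1 → n χ = 1 → (ρ : G → ℂ) c = -1 →
      (χ : G → ℂ) c = 0 → (ρ : G → ℂ) 1 = dρ → (χ : G → ℂ) 1 = dχ → 0 < dρ → 0 < dχ →
      dρ + dχ + 1 = 2 * p → (∀ x, f x = (ρ : G → ℂ) x + (χ : G → ℂ) x) →
      (∀ j : (ZMod p)ˣ, (ρ : G → ℂ) (c ^ (j : ZMod p).val) = -1) ∧
      (ρ : G → ℂ) 1 = (p : ℂ) - 1 ∧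
      (∀ a : ℕ, (Nat.card G).Coprime a → ∀ x, (ρ : G → ℂ) (x ^ a) = (ρ : G → ℂ) x) ∧
      classInner (fun x => ((ρ : G → ℂ) x * (ρ : G → ℂ) x - (ρ : G → ℂ) (x * x)) / 2) (fun _ => 1) = 0 ∧
      ∀ g : G, (ρ : G → ℂ) g = (ρ : G → ℂ) 1 → g = 1 := by
    intro ρ χ dρ dχ hnρ hnχ hρc hχc hdρ hdχ hρ0 hχ0 hds hsum
    obtain ⟨k, hk⟩ := hdvd χ dχ hnχ hdχ hχc
    have hk1 : k = 1 := by
      rcases k with _ | _ | k
      · omega
      · rfl
      · have : p * 2 ≤ dχ := hk ▸ Nat.mul_le_mul_left p (by omega)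
        omega
    rw [hk1, mul_one] at hk
    have hρ1 : (ρ : G → ℂ) 1 = (p : ℂ) - 1 := by
      rw [hdρ, show dρ = p - 1 by omega, Nat.cast_sub (by omega), Nat.cast_one]
    have hreal : ∀ ξ : IrrCharacter G, n ξ = 1 → ∀ x, conj ((ξ : G → ℂ) x) = (ξ : G → ℂ) x := fun ξ hξ x => by
      obtain ⟨z, hz⟩ := hint ξ hξ x
      rw [hz, map_intCast]
    refine ⟨fun j => by rw [hconst ρ hnρ j, hρc], hρ1, hinv ρ hnρ, ?_, ?_⟩
    · rcases alt_inner ρ (hreal ρ hnρ) with ⟨-, h⟩ | hbad
      · exact h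
      exfalso
      have hlt : ∑ x : G, Nat.card (fixedBy α x) < ∑ x : G, Nat.card (fixedBy α (x * x)) := by
        refine Finset.sum_lt_sum (fun x _ => Nat.card_mono (Set.toFinite _) fun y (hy : x • y = y) =>
          show (x * x) • y = y by rw [mul_smul, hy, hy]) ⟨t, Finset.mem_univ _, ?_⟩
        have ht1 : t ≠ 1 := fun h => by
          rw [h, one_mul, inv_one, mul_one, eq_inv_iff_mul_eq_one, ← pow_two, ← orderOf_dvd_iff_pow_eq_one,
            D.ord] at hts
          have := Nat.le_of_dvd two_pos hts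
          omega
        obtain ⟨y, hy⟩ : ∃ y : α, t • y ≠ y := by
          by_contra hc
          push_neg at hc
          exact ht1 (Subtype.ext (Equiv.ext hc))
        rw [htt, Nat.card_congr (Equiv.subtypeUnivEquiv fun x => show x ∈ fixedBy α (1 : G) from one_smul G x)]
        exact Finite.card_subtype_lt (p := fun x => x ∈ fixedBy α t) (x := y) hy
      have hcount : (∑ x : G, Nat.card (fixedBy α x) : ℕ) = Nat.card G := by
        have h : ((∑ x : G, Nat.card (fixedBy α x) : ℕ) : ℂ) = (Nat.card G : ℂ) := by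
          have h1 := hπo
          rw [classInner, inv_mul_eq_iff_eq_mul₀ (Nat.cast_ne_zero.2 Nat.card_pos.ne'), mul_one] at h1
          simp only [map_one, mul_one, hπ, permChar] at h1
          push_cast
          exact h1
        exact_mod_cast h
      have hsq : ((∑ x : G, Nat.card (fixedBy α (x * x)) : ℕ) : ℂ) =
          (Nat.card G : ℂ) + ∑ x : G, (ρ : G → ℂ) (x * x) + ∑ x : G, (χ : G → ℂ) (x * x) := by
        have h1 : ∀ x : G, π (x * x) = 1 + (ρ : G → ℂ) (x * x) + (χ : G → ℂ) (x * x) := fun x => by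
          have h := hsum (x * x)
          rw [hf, Pi.sub_apply] at h
          linear_combination h
        push_cast
        show ∑ x : G, π (x * x) = _
        rw [Finset.sum_congr rfl fun x _ => h1 x, Finset.sum_add_distrib, Finset.sum_add_distrib, Finset.sum_const,
          Finset.card_univ, nsmul_eq_mul, mul_one, Nat.card_eq_fintype_card]
      rw [hbad] at hsq
      rcases alt_inner χ (hreal χ hnχ) with ⟨hg, -⟩ | hg <;> rw [hg] at hsq
      · have h : (∑ x : G, Nat.card (fixedBy α (x * x)) : ℕ) = Nat.card G := by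
          have : ((∑ x : G, Nat.card (fixedBy α (x * x)) : ℕ) : ℂ) = (Nat.card G : ℂ) := by
            rw [hsq]; ring
          exact_mod_cast this
        omega
      · have h : (∑ x : G, Nat.card (fixedBy α (x * x)) : ℕ) + Nat.card G = 0 := by
          have : (((∑ x : G, Nat.card (fixedBy α (x * x))) + Nat.card G : ℕ) : ℂ) = ((0 : ℕ) : ℂ) := by
            rw [Nat.cast_add, hsq]; push_cast; ring
          exact_mod_cast this
        have : 0 < Nat.card G := Nat.card_pos
        omega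
    · obtain ⟨N₀, r, hr, hρeq⟩ := ρ.2
      haveI := hr
      have hmem : ∀ g : G, g ∈ r.ker ↔ (ρ : G → ℂ) g = (ρ : G → ℂ) 1 := fun g => by
        rw [MonoidHom.mem_ker, ← hρeq, Representation.char_one, char_eq_degree_iff r g]
        rfl
      intro g hg
      by_contra hg1
      set K := r.ker
      have hK : g ∈ K := (hmem g).2 hg
      haveI : IsPretransitive K α := by
        apply IsQuasiPreprimitive.isPretransitive_of_normal
        intro hall
        refine hg1 (Subtype.ext (Equiv.ext fun y => ?_))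
        have hy : y ∈ fixedPoints K α := hall ▸ Set.mem_univ y
        exact hy ⟨g, hK⟩
      haveI := Fintype.ofFinite K
      have hone' : IsCharacter K (fun _ : K => (1 : ℂ)) := isCharacter_of_isIrr isIrrCharacter_one
      have hπK : classInner (permChar K α) (fun _ => 1) = 1 := by
        rw [classInner_permChar_one]
        haveI : Subsingleton (orbitRel.Quotient K α) :=
          MulAction.pretransitive_iff_subsingleton_quotient K α |>.1 inferInstance
        haveI : Nonempty (orbitRel.Quotient K α) := ⟨Quotient.mk _ a₀⟩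
        rw [Nat.card_unique, Nat.cast_one]
      obtain ⟨b, hb⟩ := classInner_isCharacter (isCharacter_comp (isCharacter_irr χ) K.subtype) hone'
      have hval : permChar K α = (fun _ => (p : ℂ)) + ((χ : G → ℂ) ∘ K.subtype) := funext fun x => by
        have h := hsum (x : G)
        rw [(hmem x).1 x.2, hρ1, hf, Pi.sub_apply] at h
        show π (x : G) = (p : ℂ) + (χ : G → ℂ) (x : G)
        linear_combination h
      have h2 : classInner (fun _ : K => (p : ℂ)) (fun _ => 1) = (p : ℂ) := by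
        simp [classInner, Nat.card_eq_fintype_card]
      rw [hval, classInner_add_left, h2] at hπK
      change (p : ℂ) + classInner (fun x : K => (χ : G → ℂ) (K.subtype x)) (fun _ => 1) = 1 at hπK
      rw [hb] at hπK
      have : p + b = 1 := by exact_mod_cast hπK
      omega
  rcases hv01 with ⟨e1, e2⟩ | ⟨e1, e2⟩
  · exact ⟨χ₂, hmain χ₂ χ₁ d₂ d₁ ((hn12 χ₂).2 (Or.inr rfl)) ((hn12 χ₁).2 (Or.inl rfl)) (by rw [hv₂, e2]; simp)
      (by rw [hv₁, e1]; simp) hd₂ hd₁ hd₂0 hd₁0 (by omega) fun x => by rw [hfsum x, add_comm]⟩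
  · exact ⟨χ₁, hmain χ₁ χ₂ d₁ d₂ ((hn12 χ₁).2 (Or.inl rfl)) ((hn12 χ₂).2 (Or.inr rfl)) (by rw [hv₁, e1]; simp)
      (by rw [hv₂, e2]; simp) hd₁ hd₂ hd₁0 hd₂0 hdsum hfsum⟩

end CfsgLib.Char.PrimeDegreeTwoP
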