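import Cfsg.Agent.Lib.Char.PrimeDegreeTwoP.Exterior
import Cfsg.Agent.Lib.Char.ClassMul

/-!
Pairs of involutions with product a given element of order `p` having dihedral normaliser.
-/

set_option autoImplicit false
set_option linter.unusedSectionVars false

namespace CfsgLib.Char.PrimeDegreeTwoP

universe u

variable {G : Type u} [Group G] [Fintype G] {d t : G} {p : ℕ} [hpf : Fact p.Prime]

/-- The element indexed by a residue. -/
def pw (d : G) (a : ZMod p) : G := d ^ a.val

variable (D : Dih d p) (htd : t * d * t⁻¹ = d⁻¹) (htt : t * t = 1)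

include D in
theorem pw_add (a b : ZMod p) : pw d (a + b) = pw d a * pw d b := by
  rw [pw, pw, pw, ← pow_add]
  exact pow_cast D (by simp)

include D in
theorem pw_one : pw d (1 : ZMod p) = d := by
  rw [pw, ZMod.val_one, pow_one]

include D in
theorem pw_neg (a : ZMod p) : pw d (-a) = (pw d a)⁻¹ := by
  refine eq_inv_of_mul_eq_one_left ?_
  rw [← pw_add D, neg_add_cancel, pw, ZMod.val_zero, pow_zero]

include D in
theorem pw_injective : Function.Injective (pw d : ZMod p → G) := by
  intro a b h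
  rw [pw, pw, pow_eq_pow_iff_modEq, D.ord, ← ZMod.natCast_eq_natCast_iff, ZMod.natCast_zmod_val,
    ZMod.natCast_zmod_val] at h
  exact h

include D htd htt in
theorem pw_mul_t (a : ZMod p) : pw d a * t = t * pw d (-a) := by
  have h : t * pw d a * t⁻¹ = pw d (-a) := by
    rw [pw_neg D, pw, ← conj_pow, htd, inv_pow]
  rw [← h, inv_eq_of_mul_eq_one_right htt, ← mul_assoc, ← mul_assoc, htt, one_mul]

include D htd htt in
theorem inverters {x : G} (hx : x * d * x⁻¹ = d⁻¹) : ∃ a : ZMod p, x = t * pw d a := by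
  classical
  set N := Subgroup.normalizer ((Subgroup.zpowers d : Subgroup G) : Set G)
  set C := Subgroup.centralizer ({d} : Set G)
  have hCN : C ≤ N := fun y hy => by
    rw [Subgroup.mem_normalizer_iff_map_conj_eq]
    have hy' := Subgroup.mem_centralizer_singleton_iff.1 hy
    rw [MonoidHom.map_zpowers]
    congr 1
    show y * d * y⁻¹ = d
    rw [hy', mul_inv_cancel_right]
  have hdC : Subgroup.zpowers d ≤ C := by
    rw [Subgroup.zpowers_le, Subgroup.mem_centralizer_singleton_iff]
  have htN : t ∈ N := by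
    rw [Subgroup.mem_normalizer_iff_map_conj_eq, MonoidHom.map_zpowers]
    show Subgroup.zpowers (t * d * t⁻¹) = _
    rw [htd, Subgroup.zpowers_inv]
  have htC : t ∉ C := fun h => by
    rw [Subgroup.mem_centralizer_singleton_iff] at h
    rw [h, mul_inv_cancel_right, eq_inv_iff_mul_eq_one, ← pow_two, ← orderOf_dvd_iff_pow_eq_one, D.ord] at htd
    have := Nat.le_of_dvd two_pos htd
    have := D.two
    have := D.prime.two_le
    omega
  have hcard : Nat.card C ≤ p := by
    have h1 : Nat.card C ∣ 2 * p := D.norm ▸ Subgroup.card_dvd_of_le hCN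
    have h2 : p ∣ Nat.card C := by
      have := Subgroup.card_dvd_of_le hdC
      rwa [Nat.card_zpowers, D.ord] at this
    obtain ⟨k, hk⟩ := h2
    rw [hk, mul_comm 2 p, Nat.mul_dvd_mul_iff_left D.prime.pos] at h1
    rcases (Nat.dvd_prime Nat.prime_two).1 h1 with e | e
    · rw [hk, e, mul_one]
    · exfalso
      refine htC ?_
      rw [Subgroup.eq_of_le_of_card_ge hCN (by rw [hk, e, D.norm, mul_comm])]
      exact htN
  have heq : Subgroup.zpowers d = C :=
    Subgroup.eq_of_le_of_card_ge hdC (by rw [Nat.card_zpowers, D.ord]; exact hcard)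
  have hmem : t⁻¹ * x ∈ C := by
    rw [Subgroup.mem_centralizer_singleton_iff]
    have h : t * d * t⁻¹ = x * d * x⁻¹ := htd.trans hx.symm
    calc t⁻¹ * x * d = t⁻¹ * (x * d * x⁻¹) * x := by group
      _ = d * (t⁻¹ * x) := by rw [← h]; group
  rw [← heq] at hmem
  by_cases h1 : t⁻¹ * x = 1
  · exact ⟨0, by rw [inv_mul_eq_one.1 h1, pw, ZMod.val_zero, pow_zero, mul_one]⟩
  · obtain ⟨j, hj⟩ := zpowers_cases D _ hmem h1
    exact ⟨(j : ZMod p), by rw [pw, hj, mul_inv_cancel_left]⟩

include D htd htt in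
theorem isConj_inverter (a : ZMod p) : IsConj t (t * pw d a) := by
  have h2 : (2 : ZMod p) ≠ 0 := fun h => by
    have h' : ((2 : ℕ) : ZMod p) = 0 := by exact_mod_cast h
    rw [ZMod.natCast_eq_zero_iff] at h'
    exact D.two ((Nat.prime_dvd_prime_iff_eq D.prime Nat.prime_two).1 h')
  refine isConj_iff.2 ⟨pw d (-(a / 2)), ?_⟩
  rw [← pw_neg D, pw_mul_t D htd htt, mul_assoc, ← pw_add D]
  congr 2
  field_simp
  ring

/-- There are `p` such pairs. -/
theorem classConst_eq (D : Dih d p) (htd : t * d * t⁻¹ = d⁻¹) (htt : t * t = 1) : classConst t t d = p := by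
  classical
  have hmem : ∀ a : ZMod p, IsConj t (t * pw d a) ∧ IsConj t (t * pw d (a + 1)) ∧
      t * pw d a * (t * pw d (a + 1)) = d := fun a => by
    refine ⟨isConj_inverter D htd htt a, isConj_inverter D htd htt _, ?_⟩
    rw [mul_assoc t (pw d a), ← mul_assoc (pw d a), pw_mul_t D htd htt, mul_assoc t (pw d (-a)), ← pw_add D,
      neg_add_cancel_left, pw_one D, ← mul_assoc, htt, one_mul]
  rw [classConst, ← Nat.card_eq_of_bijective
    (fun a : ZMod p => (⟨(t * pw d a, t * pw d (a + 1)), hmem a⟩ :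
      {q : G × G // IsConj t q.1 ∧ IsConj t q.2 ∧ q.1 * q.2 = d})) ⟨fun a b h => ?_, fun q => ?_⟩,
    Nat.card_eq_fintype_card, ZMod.card]
  · have h1 : t * pw d a = t * pw d b := congrArg (fun q => q.1.1) h
    exact pw_injective D (mul_left_cancel h1)
  · obtain ⟨⟨x, y⟩, hx, hy, hxy⟩ := q
    have hinv : ∀ z, IsConj t z → z * z = 1 := fun z hz => by
      obtain ⟨k, hk⟩ := isConj_iff.1 hz
      rw [← hk, show k * t * k⁻¹ * (k * t * k⁻¹) = k * (t * t) * k⁻¹ by group, htt, mul_one, mul_inv_cancel]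
    have hxx := hinv x hx
    have hy' : y = x * d := by rw [← hxy, ← mul_assoc, hxx, one_mul]
    have hxd : x * d * x⁻¹ = d⁻¹ := by
      rw [eq_inv_iff_mul_eq_one, inv_eq_of_mul_eq_one_right hxx]
      calc x * d * x * d = y * y := by rw [hy']; group
        _ = 1 := hinv y hy
    obtain ⟨a, ha⟩ := inverters D htd htt hxd
    refine ⟨a, Subtype.ext (Prod.ext ha.symm ?_)⟩
    show t * pw d (a + 1) = y
    rw [hy', ha, pw_add D, pw_one D, mul_assoc]

/-- Powers keep the hypothesis. -/
theorem dih_pow {c : G} (D : Dih c p) (hts : t * c * t⁻¹ = c⁻¹) (j : (ZMod p)ˣ) :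
    Dih (c ^ (j : ZMod p).val) p ∧ t * c ^ (j : ZMod p).val * t⁻¹ = (c ^ (j : ZMod p).val)⁻¹ := by
  have hs : t * c ^ (j : ZMod p).val * t⁻¹ = (c ^ (j : ZMod p).val)⁻¹ := by rw [← conj_pow, hts, inv_pow]
  have ho : orderOf (c ^ (j : ZMod p).val) = p := orderOf_eq_prime (by
    rw [← pow_mul, mul_comm, pow_mul, orderOf_dvd_iff_pow_eq_one.1 D.ord.dvd, one_pow]) (pow_unit_ne_one D j)
  have hz : Subgroup.zpowers (c ^ (j : ZMod p).val) = Subgroup.zpowers c :=
    Subgroup.eq_of_le_of_card_ge (Subgroup.zpowers_le.2 (Subgroup.npow_mem_zpowers c _))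
      (by rw [Nat.card_zpowers, Nat.card_zpowers, D.ord, ho])
  exact ⟨⟨D.prime, D.two, ho, by rw [hz]; exact D.norm, t, hs⟩, hs⟩

end CfsgLib.Char.PrimeDegreeTwoP
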