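import Cfsg.Agent.Lib.Char.PrimeDegreeTwoP.DoubleChar
import Cfsg.Agent.Lib.Char.PrimeDegreeTwoP.DoubleCount
import Cfsg.Agent.Lib.Perm.Dickson.Recog
import Cfsg.Agent.S0720

/-!
A primitive, not doubly transitive group of degree `2p` with Sylow normaliser of order `2p` is `A₅` on ten points.
-/

set_option autoImplicit false
set_option linter.unusedSectionVars false
set_option linter.style.haveILetI false

namespace CfsgLib.Char.PrimeDegreeTwoP

open scoped ComplexConjugate
open Cfsg MulAction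

universe u

section facts

variable {G : Type u} [Group G] [Fintype G] {c : G} {p : ℕ} [hpf : Fact p.Prime] (D : Dih c p)
include D

/-- The function vanishes off the elements of order `p`. -/
theorem phi_off {g : G} (hg : orderOf g ≠ p) : phi c p g = 0 := phi_eq_zero D fun x hx => by
  by_contra hne
  obtain ⟨j, hj⟩ := zpowers_cases D _ hx hne
  refine hg ?_
  have h1 : orderOf (x⁻¹ * g * x) = p := by
    rw [← hj]
    exact orderOf_eq_prime (by
      rw [← pow_mul, mul_comm, pow_mul, orderOf_dvd_iff_pow_eq_one.1 D.ord.dvd, one_pow]) (pow_unit_ne_one D j)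
  have h2 := orderOf_injective (MulAut.conj x⁻¹).toMonoidHom (MulEquiv.injective _) g
  simp only [MulEquiv.coe_toMonoidHom, MulAut.conj_apply, inv_inv] at h2
  rw [← h2, h1]

/-- On an element of order `p` it is `p`. -/
theorem phi_on {P : Sylow p G} (hP : (P : Subgroup G) = Subgroup.zpowers c) {g : G} (hg : orderOf g = p) :
    phi c p g = p := by
  have hgp : IsPGroup p (Subgroup.zpowers g) := IsPGroup.of_card (n := 1) (by rw [Nat.card_zpowers, hg, pow_one])
  obtain ⟨Q, hQ⟩ := hgp.exists_le_sylow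
  obtain ⟨k, hk⟩ := MulAction.exists_smul_eq G Q P
  have hmem : k * g * k⁻¹ ∈ Subgroup.zpowers c := by
    rw [← hP, ← hk]
    exact Subgroup.smul_mem_pointwise_smul g (MulAut.conj k) _ (hQ (Subgroup.mem_zpowers g))
  have hne : k * g * k⁻¹ ≠ 1 := fun h => by
    have : g = 1 := by
      calc g = k⁻¹ * (k * g * k⁻¹) * k := by group
        _ = 1 := by rw [h]; group
    rw [this, orderOf_one] at hg
    exact hpf.out.ne_one hg.symm
  obtain ⟨j, hj⟩ := zpowers_cases D _ hmem hne
  have hcl : IsClassFunction G (phi c p) := by unfold phi; exact isClassFunction_indFun _ _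
  rw [← hcl g k, ← hj]
  exact phi_pow D j

end facts

theorem eq_one_of_two_pow {a b : ℕ} (ha : 0 < a) (h : 2 * a * (a + 1) = 2 ^ b) : a = 1 := by
  obtain ⟨i, -, hi⟩ := (Nat.dvd_prime_pow Nat.prime_two).1 (show a ∣ 2 ^ b from h ▸ Dvd.intro (2 * (a + 1)) (by ring))
  obtain ⟨k, -, hk⟩ :=
    (Nat.dvd_prime_pow Nat.prime_two).1 (show a + 1 ∣ 2 ^ b from h ▸ Dvd.intro (2 * a) (by ring))
  rcases i with _ | i
  · simpa using hi
  rcases k with _ | k
  · simp at hk; omega
  rw [pow_succ] at hi hk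
  omega

variable {α : Type u} [Fintype α] [DecidableEq α] {p : ℕ} [hpf : Fact p.Prime]

/-- Scott: `A₅` of degree ten. -/
theorem double_main (hp : 3 < p) (hα : Fintype.card α = 2 * p) (G : Subgroup (Equiv.Perm α))
    (hprim : IsPreprimitive G α) (hnot2 : ¬ IsMultiplyPretransitive G α 2) (P : Sylow p G)
    (hN : Nat.card (Subgroup.normalizer ((P : Subgroup G) : Set G)) = 2 * p) :
    p = 5 ∧ Nonempty (G ≃* alternatingGroup (Fin 5)) := by
  classical
  haveI := Fintype.ofFinite G
  haveI := Fintype.ofFinite (IrrCharacter G)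
  haveI := hprim
  obtain ⟨a₀⟩ : Nonempty α := Fintype.card_pos_iff.1 (by omega)
  obtain ⟨hrank, a, ha0, hpa, -⟩ := (Cfsg.Agent.S0720.result hpf.out hα G hprim a₀).resolve_left hnot2
  obtain ⟨c, t, D, hPc, htt, hts, hfree⟩ := exists_dih_double hp hα G hprim hnot2 P hN
  obtain ⟨ρ, hρc, hρ1, hρt, hΨo, hfaith⟩ := exists_rho hp hα G hprim a₀ hrank D hts htt hfree
  set m := a ^ 2 + a with hmdef
  have hm : p = 2 * m + 1 := by rw [hmdef]; omega
  have hm2 : 2 ≤ m := by omega
  have hf1 : (ρ : G → ℂ) 1 = 2 * (m : ℂ) := by rw [hρ1, hm]; push_cast; ring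
  set Ψ : G → ℂ := fun x => ((ρ : G → ℂ) x * (ρ : G → ℂ) x - (ρ : G → ℂ) (x * x)) / 2 with hΨdef
  have hΨ : IsCharacter G Ψ := isCharacter_altSquare (isCharacter_irr ρ)
  have hΨc : ∀ j : (ZMod p)ˣ, Ψ (c ^ (j : ZMod p).val) = 1 := fun j => by
    have e : c ^ (j : ZMod p).val * c ^ (j : ZMod p).val = c ^ ((2 : ZMod p) * j).val := by
      rw [← pow_add]
      exact pow_cast D (by push_cast [ZMod.natCast_zmod_val]; ring)
    have h2u : (2 : ZMod p) * j ≠ 0 := mul_ne_zero (fun h => by
      have h' : ((2 : ℕ) : ZMod p) = 0 := by exact_mod_cast h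
      rw [ZMod.natCast_eq_zero_iff] at h'
      have := Nat.le_of_dvd two_pos h'
      omega) j.ne_zero
    show ((ρ : G → ℂ) _ * (ρ : G → ℂ) _ - (ρ : G → ℂ) _) / 2 = 1
    rw [e, show (ρ : G → ℂ) (c ^ (j : ZMod p).val) = -1 from hρc j,
      show (ρ : G → ℂ) (c ^ ((2 : ZMod p) * j).val) = -1 from hρc (Units.mk0 _ h2u)]
    norm_num
  have hΨ1 : Ψ 1 = (m : ℂ) * (2 * m - 1) := by
    show ((ρ : G → ℂ) 1 * (ρ : G → ℂ) 1 - (ρ : G → ℂ) (1 * 1)) / 2 = _
    rw [one_mul, hf1]
    ring
  have hΨt : ∀ (k : ℕ), (Nat.card G).Coprime k → ∀ x, Ψ (x ^ k) = Ψ x := fun k hk x => by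
    have e : x ^ k * x ^ k = (x * x) ^ k := by rw [← pow_two, ← pow_two, ← pow_mul, ← pow_mul, mul_comm]
    simp only [hΨdef, e, hρt k hk]
  obtain ⟨hΨeq, χ₀, O, hOm, hOd, hOtw, hphi, hw⟩ := rational_eq D hm hρc hf1 hΨ hΨc hΨ1 hΨt hΨo
  have key : ∀ g : G, orderOf g ≠ p → (ρ : G → ℂ) (g * g) = (ρ : G → ℂ) g * (ρ : G → ℂ) g - 2 * (m : ℂ) * (ρ : G → ℂ) g + 2 * (m : ℂ) := by
    intro g hg
    have h : Ψ g = phi c p g - m + m * (ρ : G → ℂ) g := hΨeq g
    rw [phi_off D hg] at h
    simp only [hΨdef] at h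
    linear_combination (-2 : ℂ) * h
  have hint : ∀ g, ∃ z : ℤ, (ρ : G → ℂ) g = z := exists_int_of_invariant (isCharacter_irr ρ) hρt
  choose zf hzf using hint
  have hz1 : zf 1 = 2 * (m : ℤ) := by
    have h : ((zf 1 : ℤ) : ℂ) = ((2 * (m : ℤ) : ℤ) : ℂ) := by rw [← hzf, hf1]; push_cast; rfl
    exact_mod_cast h
  have hzkey : ∀ g : G, orderOf g ≠ p → zf (g * g) = zf g * zf g - 2 * m * zf g + 2 * m := by
    intro g hg
    have h := key g hg
    rw [hzf, hzf] at h
    exact_mod_cast h
  have hzfaith : ∀ g : G, zf g = 2 * m → g = 1 := fun g hg => hfaith g (by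
    show (ρ : G → ℂ) g = (ρ : G → ℂ) 1
    rw [hzf, hzf 1, hg, hz1])
  have hbound : ∀ g : G, -(2 * (m : ℤ)) ≤ zf g ∧ zf g ≤ 2 * m := by
    intro g
    obtain ⟨N₀, r, hr, hρeq⟩ := ρ.2
    have h1 := norm_char_le r g
    have h2 : ((Module.finrank ℂ (Fin N₀ → ℂ) : ℕ) : ℂ) = ((2 * m : ℕ) : ℂ) := by
      rw [← Representation.char_one r, hρeq]
      push_cast
      exact hf1
    rw [Nat.cast_inj.1 h2, hρeq, show (ρ : G → ℂ) g = (zf g : ℂ) from hzf g, Complex.norm_intCast] at h1
    have h3 : |zf g| ≤ ((2 * m : ℕ) : ℤ) := by exact_mod_cast h1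
    push_cast at h3
    exact abs_le.1 h3
  have hinvol : ∀ i : G, orderOf i = 2 → zf i = 0 := by
    intro i hi
    have h := hzkey i (by omega)
    have hii : i * i = 1 := by rw [← pow_two, ← hi]; exact pow_orderOf_eq_one i
    rw [hii, hz1] at h
    have h' : zf i * (zf i - 2 * m) = 0 := by linear_combination -h
    rcases mul_eq_zero.1 h' with e | e
    · exact e
    · have := hzfaith i (by linarith)
      rw [this, orderOf_one] at hi
      omega
  have hodd : ∀ g : G, Odd (orderOf g) → g ≠ 1 → orderOf g ≠ p → zf g = 1 := by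
    intro g hg hg1 hgp
    have h := hzkey g hgp
    have e : zf (g * g) = zf g := by
      have e' : ((zf (g * g) : ℤ) : ℂ) = (zf g : ℂ) := by
        rw [← hzf, ← hzf]
        exact apply_sq_of_odd hρt hg
      exact_mod_cast e'
    rw [e] at h
    have h' : (zf g - 1) * (zf g - 2 * m) = 0 := by linear_combination -h
    rcases mul_eq_zero.1 h' with e | e
    · linarith
    · exact absurd (hzfaith g (by linarith)) hg1
  have h2G : 2 ∣ Nat.card G := (hN ▸ dvd_mul_right 2 p).trans (Subgroup.card_subgroup_dvd_card _)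
  have htne : t ≠ 1 := fun h => by
    rw [h, one_mul, inv_one, mul_one, eq_inv_iff_mul_eq_one, ← pow_two, ← orderOf_dvd_iff_pow_eq_one, D.ord] at hts
    have := Nat.le_of_dvd two_pos hts
    omega
  have hto : orderOf t = 2 := orderOf_eq_prime (by rw [pow_two, htt]) htne
  -- class multiplication at an involution
  have hsum : ∀ i : G, orderOf i = 2 → ((∑ j : (ZMod p)ˣ, classConst i i (c ^ (j : ZMod p).val) : ℕ) : ℂ) =
      (Nat.card {x : G // IsConj i x} : ℂ) ^ 2 / (Nat.card G : ℂ) * (4 * (m : ℂ) ^ 2 / (2 * m - 1)) := by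
    intro i hi
    push_cast
    rw [Finset.sum_congr rfl fun (j : (ZMod p)ˣ) _ => classConst_formula i i (c ^ (j : ZMod p).val), ← Finset.mul_sum, ← pow_two]
    congr 1
    simp only [finsum_eq_sum_of_fintype]
    rw [Finset.sum_comm]
    have htot : ∀ χ : IrrCharacter G, ∑ j : (ZMod p)ˣ, (χ : G → ℂ) i * (χ : G → ℂ) i *
        conj ((χ : G → ℂ) (c ^ (j : ZMod p).val)) / (χ : G → ℂ) 1 =
        (2 * ((χ : G → ℂ) i * (χ : G → ℂ) i / (χ : G → ℂ) 1)) * classInner (χ : G → ℂ) (phi c p) := fun χ => by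
      obtain ⟨z, hz⟩ := tot_rat D χ
      rw [inner_phi D (isClassFunction_irr χ), ← Finset.sum_div, ← Finset.mul_sum, ← map_sum,
        show ∑ j : (ZMod p)ˣ, (χ : G → ℂ) (c ^ (j : ZMod p).val) = tot (χ : G → ℂ) c p from rfl, hz, map_intCast]
      ring
    have hfi : (ρ : G → ℂ) i = 0 := by rw [hzf, hinvol i hi, Int.cast_zero]
    have hOi : ∀ χ ∈ O, (χ : G → ℂ) i = -1 := by
      have hval : ∀ χ ∈ O, (χ : G → ℂ) i = (χ₀ : G → ℂ) i := fun χ hχ => by
        obtain ⟨k, hk, hk'⟩ := hOtw χ hχ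
        have hko : k % 2 = 1 := by
          rcases Nat.mod_two_eq_zero_or_one k with h | h
          · exact absurd (Nat.eq_one_of_dvd_coprimes hk h2G (Nat.dvd_of_mod_eq_zero h)) (by norm_num)
          · exact h
        rw [hk' i, ← pow_mod_orderOf, hi, hko, pow_one]
      have h := hphi i
      rw [phi_off D (by omega), hfi, Finset.sum_congr rfl hval, Finset.sum_const, hOm,
        nsmul_eq_mul, mul_zero, sub_zero] at h
      have hmC : (m : ℂ) ≠ 0 := Nat.cast_ne_zero.2 (by omega)
      intro χ hχ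
      rw [hval χ hχ]
      exact mul_left_cancel₀ hmC (by linear_combination -h)
    rw [Finset.sum_congr rfl fun χ _ => htot χ, hw, show (ρ : G → ℂ) i = 0 from hfi,
      Finset.sum_congr rfl fun χ hχ => by rw [hOi χ hχ, hOd χ hχ], Finset.sum_const, hOm, nsmul_eq_mul]
    have h21 : (2 * (m : ℂ) - 1) ≠ 0 := by
      intro h
      have h' : ((2 * m : ℕ) : ℂ) = ((1 : ℕ) : ℂ) := by push_cast; linear_combination h
      have : 2 * m = 1 := by exact_mod_cast h'
      omega
    have hinv := inv_mul_cancel₀ h21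
    simp only [div_eq_mul_inv, inv_one, mul_one, one_mul, zero_mul, mul_zero, sub_zero]
    linear_combination (-2 * (m : ℂ)) * hinv
  have hGC : (Nat.card G : ℂ) ≠ 0 := Nat.cast_ne_zero.2 Nat.card_pos.ne'
  have hmC : (m : ℂ) ≠ 0 := Nat.cast_ne_zero.2 (by omega)
  have h21 : (2 * (m : ℂ) - 1) ≠ 0 := by
    intro h
    have h' : ((2 * m : ℕ) : ℂ) = ((1 : ℕ) : ℂ) := by push_cast; linear_combination h
    have : 2 * m = 1 := by exact_mod_cast h'
    omega
  -- one class of involutions
  have hconj : ∀ i : G, orderOf i = 2 → IsConj t i := by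
    intro i hi
    have hne : ∑ j : (ZMod p)ˣ, classConst i i (c ^ (j : ZMod p).val) ≠ 0 := fun h0 => by
      have h := hsum i hi
      rw [h0, Nat.cast_zero] at h
      haveI : Nonempty {x : G // IsConj i x} := ⟨⟨i, IsConj.refl i⟩⟩
      have hI : (Nat.card {x : G // IsConj i x} : ℂ) ≠ 0 := Nat.cast_ne_zero.2 Nat.card_pos.ne'
      exact mul_ne_zero (div_ne_zero (pow_ne_zero 2 hI) hGC)
        (div_ne_zero (mul_ne_zero (by norm_num) (pow_ne_zero 2 hmC)) h21) h.symm
    obtain ⟨j, -, hj⟩ := Finset.exists_ne_zero_of_sum_ne_zero hne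
    obtain ⟨Dj, hsj⟩ := dih_pow D hts j
    obtain ⟨⟨⟨x, y⟩, hx, hy, hxy⟩⟩ := (Nat.card_ne_zero.1 hj).1
    have hinv : ∀ z, IsConj i z → z * z = 1 := fun z hz => by
      obtain ⟨k, hk⟩ := isConj_iff.1 hz
      rw [← hk, show k * i * k⁻¹ * (k * i * k⁻¹) = k * (i * i) * k⁻¹ by group, ← pow_two i, ← hi,
        pow_orderOf_eq_one, mul_one, mul_inv_cancel]
    have hxx := hinv x hx
    have hy' : y = x * c ^ (j : ZMod p).val := by rw [← hxy, ← mul_assoc, hxx, one_mul]
    have hxd : x * c ^ (j : ZMod p).val * x⁻¹ = (c ^ (j : ZMod p).val)⁻¹ := by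
      rw [eq_inv_iff_mul_eq_one, inv_eq_of_mul_eq_one_right hxx]
      calc _ = y * y := by rw [hy']; group
        _ = 1 := hinv y hy
    obtain ⟨k, hk⟩ := inverters Dj hsj htt hxd
    exact (hk ▸ isConj_inverter Dj hsj htt k).trans hx.symm
  -- the order of the group
  set I := Nat.card {x : G // IsConj t x} with hIdef
  set C := Nat.card (Subgroup.centralizer ({t} : Set G)) with hCdef
  have hIC : I * C = Nat.card G := by rw [hIdef, card_isConj, Subgroup.index_mul_card]
  have hord : Nat.card G * (2 * m) = p * C ^ 2 * (2 * m - 1) := by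
    have h := hsum t hto
    rw [Finset.sum_congr rfl fun (j : (ZMod p)ˣ) _ => by
      obtain ⟨Dj, hsj⟩ := dih_pow D hts j
      exact classConst_eq Dj hsj htt, Finset.sum_const, Finset.card_univ, ZMod.card_units, ← hIdef,
      smul_eq_mul, show p - 1 = 2 * m by omega] at h
    push_cast at h
    field_simp at h
    have e : ((Nat.card G * (2 * m) : ℕ) : ℂ) = ((p * C ^ 2 * (2 * m - 1) : ℕ) : ℂ) := by
      push_cast [Nat.cast_sub (show 1 ≤ 2 * m by omega)]
      have hIC' : (I : ℂ) * C = Nat.card G := by exact_mod_cast hIC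
      refine mul_left_cancel₀ hGC ?_
      linear_combination (-(C : ℂ) ^ 2 / 2) * h - 2 * (m : ℂ) * ((I : ℂ) * C + Nat.card G) * hIC'
    exact_mod_cast e
  -- `p - 1` is a power of two
  have huniq : ∀ k : ℕ, k.Prime → k ∣ 2 * m → k = 2 := by
    intro k hk hkd
    by_contra hk2
    haveI : Fact k.Prime := ⟨hk⟩
    have hkp : k ≠ p := fun e => by
      have := Nat.le_of_dvd (by omega) hkd
      omega
    have hk21 : ¬ k ∣ 2 * m - 1 := fun h => by
      have := Nat.dvd_sub hkd h
      rw [show 2 * m - (2 * m - 1) = 1 by omega, Nat.dvd_one] at this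
      exact hk.one_lt.ne' this
    have hkC : k ∣ C := by
      have h : k ∣ p * C ^ 2 * (2 * m - 1) := hord ▸ dvd_mul_of_dvd_right hkd _
      rcases hk.dvd_mul.1 h with h | h
      · rcases hk.dvd_mul.1 h with h | h
        · exact absurd ((Nat.prime_dvd_prime_iff_eq hk hpf.out).1 h) hkp
        · exact hk.dvd_of_dvd_pow h
      · exact absurd h hk21
    obtain ⟨y, hy⟩ := exists_prime_orderOf_dvd_card' k (hkC.trans (hIC ▸ dvd_mul_left C I))
    obtain ⟨b, hb⟩ := classInner_isCharacter (G := Subgroup.zpowers y)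
      (isCharacter_comp (isCharacter_irr ρ) (Subgroup.zpowers y).subtype) (isCharacter_of_isIrr isIrrCharacter_one)
    rw [classInner, Nat.card_zpowers, hy] at hb
    simp only [map_one, mul_one] at hb
    have hval : ∀ q : Subgroup.zpowers y,
        (ρ : G → ℂ) ((Subgroup.zpowers y).subtype q) = if q = 1 then 2 * (m : ℂ) else 1 := by
      intro q
      split_ifs with h
      · rw [h, map_one]
        exact hf1
      · have ho : orderOf (q : G) = k := by
          have h1 := orderOf_dvd_natCard q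
          rw [Nat.card_zpowers, hy, Subgroup.orderOf_coe] at *
          exact ((Nat.dvd_prime hk).1 h1).resolve_left fun e => h (orderOf_eq_one_iff.1 e)
        show (ρ : G → ℂ) (q : G) = 1
        rw [hzf, hodd q (by rw [ho]; exact hk.odd_of_ne_two hk2) (fun e => h (Subtype.ext e))
          (by rw [ho]; exact hkp), Int.cast_one]
    rw [Finset.sum_congr rfl fun q _ => hval q, Finset.sum_ite, Finset.sum_const, Finset.sum_const,
      Finset.filter_eq' Finset.univ (1 : Subgroup.zpowers y), if_pos (Finset.mem_univ _), Finset.card_singleton,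
      Finset.filter_ne' Finset.univ (1 : Subgroup.zpowers y), Finset.card_erase_of_mem (Finset.mem_univ _),
      Finset.card_univ, ← Nat.card_eq_fintype_card, Nat.card_zpowers, hy, one_smul, nsmul_eq_mul, mul_one,
      inv_mul_eq_iff_eq_mul₀ (Nat.cast_ne_zero.2 hk.ne_zero)] at hb
    have h' : ((2 * m + (k - 1) : ℕ) : ℂ) = ((k * b : ℕ) : ℂ) := by push_cast; exact hb
    have hnat : 2 * m + (k - 1) = k * b := by exact_mod_cast h'
    have hd1 : k ∣ k - 1 := (Nat.dvd_add_right hkd).1 ⟨b, hnat⟩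
    have := hk.two_le
    have := Nat.le_of_dvd (by omega) hd1
    omega
  have ha1 : a = 1 := by
    refine eq_one_of_two_pow ha0 (b := (2 * m).primeFactorsList.length) ?_
    rw [← Nat.eq_prime_pow_of_unique_prime_dvd (show 2 * m ≠ 0 by omega) @huniq, hmdef]
    ring
  subst ha1
  have hp5 : p = 5 := by omega
  refine ⟨hp5, ?_⟩
  have hm' : m = 2 := by rw [hmdef]; norm_num
  -- counting
  have hF : Nat.card {g : G // orderOf g = p} * p = Nat.card G * m := by
    have h := inner_phi D (χ := fun _ : G => (1 : ℂ)) (isClassFunction_irr ⟨_, isIrrCharacter_one⟩)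
    rw [tot_of_const D (a := 1) (fun j => rfl), classInner, inv_mul_eq_iff_eq_mul₀ hGC] at h
    have e : ∀ g : G, (1 : ℂ) * conj (phi c p g) = if orderOf g = p then (p : ℂ) else 0 := fun g => by
      split_ifs with hg
      · rw [phi_on D hPc hg, map_natCast, one_mul]
      · rw [phi_off D hg, map_zero, mul_zero]
    rw [Finset.sum_congr rfl fun g _ => e g, ← Finset.sum_filter, Finset.sum_const, nsmul_eq_mul,
      ← Fintype.card_subtype, ← Nat.card_eq_fintype_card, hm] at h
    have h' : ((Nat.card {g : G // orderOf g = p} * p : ℕ) : ℂ) = ((Nat.card G * m : ℕ) : ℂ) := by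
      rw [hm]
      push_cast at h ⊢
      linear_combination h
    exact_mod_cast h'
  have hinvcard : Nat.card {g : G // orderOf g = 2} = I := by
    refine Nat.card_congr (Equiv.subtypeEquivRight fun g => ⟨hconj g, fun h => ?_⟩)
    obtain ⟨k, hk⟩ := isConj_iff.1 h
    have h2 := orderOf_injective (MulAut.conj k).toMonoidHom (MulEquiv.injective _) t
    simp only [MulEquiv.coe_toMonoidHom, MulAut.conj_apply, hk] at h2
    rw [h2, hto]
  have hzero : ∑ g : G, zf g = 0 := by
    have hne : ρ ≠ ⟨fun _ => 1, isIrrCharacter_one⟩ := fun e => by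
      have h1 := hρc 1
      rw [e] at h1
      norm_num at h1
    have h := classInner_irr_ne hne
    rw [classInner, mul_eq_zero] at h
    have h' := h.resolve_left (inv_ne_zero hGC)
    simp only [map_one, mul_one] at h'
    rw [Finset.sum_congr rfl fun g _ => show (ρ : G → ℂ) g = (zf g : ℂ) from hzf g] at h'
    exact_mod_cast h'
  have hge : ∀ g : G, (if g = 1 then (3 : ℤ) else 0) - (if orderOf g = 2 then 1 else 0) -
      (if orderOf g = p then 2 else 0) ≤ zf g - 1 := by
    intro g
    by_cases h1 : g = 1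
    · subst h1
      rw [if_pos rfl, orderOf_one, if_neg (by norm_num), if_neg (by omega), hz1, hm']
      norm_num
    rw [if_neg h1]
    by_cases h2 : orderOf g = 2
    · rw [if_pos h2, if_neg (by omega), hinvol g h2]
      norm_num
    rw [if_neg h2]
    by_cases h5 : orderOf g = p
    · rw [if_pos h5]
      have hv : (ρ : G → ℂ) g = -1 := by
        have h := hΨeq g
        obtain ⟨j, k, hjk⟩ : ∃ (j : (ZMod p)ˣ) (k : G), k * g * k⁻¹ = c ^ (j : ZMod p).val := by
          have hgp : IsPGroup p (Subgroup.zpowers g) :=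
            IsPGroup.of_card (n := 1) (by rw [Nat.card_zpowers, h5, pow_one])
          obtain ⟨Q, hQ⟩ := hgp.exists_le_sylow
          obtain ⟨k, hk⟩ := MulAction.exists_smul_eq G Q P
          have hmem : k * g * k⁻¹ ∈ Subgroup.zpowers c := by
            rw [← hPc, ← hk]
            exact Subgroup.smul_mem_pointwise_smul g (MulAut.conj k) _ (hQ (Subgroup.mem_zpowers g))
          have hne : k * g * k⁻¹ ≠ 1 := fun e => h1 (by
            calc g = k⁻¹ * (k * g * k⁻¹) * k := by group
              _ = 1 := by rw [e]; group)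
          obtain ⟨j, hj⟩ := zpowers_cases D _ hmem hne
          exact ⟨j, k, hj.symm⟩
        rw [← isClassFunction_irr ρ g k, hjk]
        exact hρc j
      have : zf g = -1 := by
        have hh : ((zf g : ℤ) : ℂ) = ((-1 : ℤ) : ℂ) := by rw [← hzf, hv]; norm_num
        exact_mod_cast hh
      rw [this]
      norm_num
    rw [if_neg h5]
    have hkey := hzkey g h5
    rw [hm'] at hkey
    push_cast at hkey
    have hb1 := hbound g
    have hb2 := hbound (g * g)
    rw [hm'] at hb1 hb2
    push_cast at hb1 hb2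
    by_contra hlt
    push_neg at hlt
    have hcase : zf g = 0 ∨ zf g ≤ -1 := by omega
    rcases hcase with e | e
    · rw [e] at hkey
      have hgg : g * g = 1 := hzfaith (g * g) (by rw [hkey, hm']; norm_num)
      exact h2 (orderOf_eq_prime (by rw [pow_two, hgg]) h1)
    · nlinarith
  have hineq := Finset.sum_le_sum (s := (Finset.univ : Finset G)) fun g _ => hge g
  rw [Finset.sum_sub_distrib, Finset.sum_sub_distrib, Finset.sum_sub_distrib, hzero, Finset.sum_ite_eq',
    if_pos (Finset.mem_univ _), ← Finset.sum_filter, ← Finset.sum_filter, Finset.sum_const, Finset.sum_const,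
    Finset.sum_const, ← Fintype.card_subtype, ← Fintype.card_subtype, Finset.card_univ,
    ← Nat.card_eq_fintype_card, ← Nat.card_eq_fintype_card, ← Nat.card_eq_fintype_card, hinvcard] at hineq
  simp only [nsmul_eq_mul, mul_one] at hineq
  rw [hm'] at hF hord
  rw [hp5] at hF hord hineq
  have hfin : 5 * I ≥ Nat.card G + 15 := by
    have : (3 : ℤ) - I - (Nat.card {g : G // orderOf g = 5} : ℤ) * 2 ≤ 0 - (Nat.card G : ℤ) := hineq
    omega
  have hCev : 2 ∣ C := by
    have h : Subgroup.zpowers t ≤ Subgroup.centralizer ({t} : Set G) := by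
      rw [Subgroup.zpowers_le, Subgroup.mem_centralizer_singleton_iff]
    have := Subgroup.card_dvd_of_le h
    rwa [Nat.card_zpowers, hto] at this
  have hI0 : 0 < I := by rcases Nat.eq_zero_or_pos I with h | h <;> [omega; exact h]
  have hC5 : C < 5 := by
    by_contra h
    have := Nat.mul_le_mul_left I (show 5 ≤ C by omega)
    omega
  have h10 : 10 ∣ Nat.card G := by
    have := (hN.symm.dvd).trans (Subgroup.card_subgroup_dvd_card _)
    rwa [hp5] at this
  have h60 : Nat.card G = 60 := by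
    have hC0 : C ≠ 0 := fun h => by rw [h, mul_zero] at hIC; have := Nat.card_pos (α := G); omega
    have hCv : C = 2 ∨ C = 4 := by omega
    rcases hCv with e | e <;> rw [e] at hord <;> omega
  refine CfsgLib.Perm.Dickson.mulEquiv_a5 h60 (P := (P : Subgroup G)) ?_ fun hn => ?_
  · rw [hPc, Nat.card_zpowers, D.ord, hp5]
  · rw [Subgroup.normalizer_eq_top_iff.2 hn, Subgroup.card_top, h60, hp5] at hN
    omega

end CfsgLib.Char.PrimeDegreeTwoP
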