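import Cfsg.Agent.Lib.Char.Induction
import Cfsg.Agent.Lib.Char.Virtual
import Cfsg.Agent.Lib.Char.PowTwist

/-!
A Sylow subgroup of prime order with normaliser of order `2p`: a rational character of degree
`(p - 1)(p - 2)/2` with value `1` on the elements of order `p` is determined.
-/

set_option autoImplicit false
set_option linter.unusedSectionVars false

namespace CfsgLib.Char.PrimeDegreeTwoP

open scoped ComplexConjugate
open Cfsg

universe u

variable {G : Type u} [Group G] [Fintype G]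

theorem int_of_rat_integral {a : ℚ} (h : IsIntegral ℤ (a : ℂ)) : ∃ z : ℤ, a = z := by
  have h1 : IsIntegral ℤ a := by
    rw [← isIntegral_algebraMap_iff (algebraMap ℚ ℂ).injective, eq_ratCast]
    exact h
  obtain ⟨z, hz⟩ := IsIntegrallyClosed.isIntegral_iff.1 h1
  exact ⟨z, by simpa using hz.symm⟩

/-- Twist of an irreducible character. -/
noncomputable def tw (χ : IrrCharacter G) {k : ℕ} (hk : (Nat.card G).Coprime k) : IrrCharacter G :=
  ⟨fun g => (χ : G → ℂ) (g ^ k), isIrrCharacter_powMap hk χ⟩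

theorem tw_apply (χ : IrrCharacter G) {k : ℕ} (hk : (Nat.card G).Coprime k) (g : G) :
    (tw χ hk : G → ℂ) g = (χ : G → ℂ) (g ^ k) := rfl

/-- The hypothesis: a prime order element inverted by another one, with normaliser of order `2p`. -/
structure Dih (c : G) (p : ℕ) : Prop where
  prime : p.Prime
  two : p ≠ 2
  ord : orderOf c = p
  norm : Nat.card (Subgroup.normalizer ((Subgroup.zpowers c : Subgroup G) : Set G)) = 2 * p
  refl : ∃ t : G, t * c * t⁻¹ = c⁻¹

variable {c : G} {p : ℕ} [Fact p.Prime]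

/-- The class function supported on the conjugates of the nontrivial powers. -/
noncomputable def phi (c : G) (p : ℕ) : G → ℂ :=
  open scoped Classical in indFun (Subgroup.zpowers c) (fun q => if (q : G) = 1 then 0 else (p : ℂ) / 2)

/-- The value on the powers, indexed by the units. -/
noncomputable def val' (χ : G → ℂ) (c : G) (j : (ZMod p)ˣ) : ℂ := χ (c ^ (j : ZMod p).val)

/-- Their sum. -/
noncomputable def tot (χ : G → ℂ) (c : G) (p : ℕ) [Fact p.Prime] : ℂ :=
  ∑ j : (ZMod p)ˣ, χ (c ^ (j : ZMod p).val)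

variable (D : Dih c p)
include D

theorem pow_cast {a b : ℕ} (h : (a : ZMod p) = b) : c ^ a = c ^ b := by
  rw [pow_eq_pow_iff_modEq, D.ord]
  exact (ZMod.natCast_eq_natCast_iff a b p).1 h

theorem zpowers_cases (q : G) (hq : q ∈ Subgroup.zpowers c) (h1 : q ≠ 1) :
    ∃ j : (ZMod p)ˣ, c ^ (j : ZMod p).val = q := by
  obtain ⟨n, hn⟩ := Submonoid.mem_powers_iff _ _ |>.1
    ((isOfFinOrder_of_finite c).mem_powers_iff_mem_zpowers.2 hq)
  have hne : (n : ZMod p) ≠ 0 := fun h => h1 (by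
    rw [← hn, pow_cast D (a := n) (b := 0) (by rw [h, Nat.cast_zero]), pow_zero])
  exact ⟨Units.mk0 _ hne, by rw [← hn]; exact pow_cast D (by simp)⟩

theorem pow_unit_ne_one (j : (ZMod p)ˣ) : c ^ (j : ZMod p).val ≠ 1 := by
  intro h
  have h1 := orderOf_dvd_of_pow_eq_one h
  rw [D.ord] at h1
  have h2 := Nat.le_of_dvd (Nat.pos_of_ne_zero fun h0 => j.ne_zero ((ZMod.val_eq_zero _).1 h0)) h1
  exact absurd (ZMod.val_lt (j : ZMod p)) (not_lt.2 h2)

theorem sum_zpowers (F : G → ℂ) [Fintype (Subgroup.zpowers c)] [DecidableEq G] :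
    (∑ q : Subgroup.zpowers c, if (q : G) = 1 then 0 else F q) = ∑ j : (ZMod p)ˣ, F (c ^ (j : ZMod p).val) := by
  classical
  rw [Finset.sum_ite, Finset.sum_const_zero, zero_add]
  refine (Finset.sum_bij (fun (j : (ZMod p)ˣ) _ => (⟨c ^ (j : ZMod p).val, Subgroup.npow_mem_zpowers c _⟩ : Subgroup.zpowers c))
    (fun j _ => Finset.mem_filter.2 ⟨Finset.mem_univ _, pow_unit_ne_one D j⟩) (fun j _ k _ e => ?_)
    (fun q hq => ?_) (fun j _ => rfl)).symm
  · have e' : c ^ (j : ZMod p).val = c ^ (k : ZMod p).val := congrArg Subtype.val e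
    rw [pow_eq_pow_iff_modEq, D.ord, ← ZMod.natCast_eq_natCast_iff, ZMod.natCast_zmod_val,
      ZMod.natCast_zmod_val] at e'
    exact Units.ext e'
  · obtain ⟨j, hj⟩ := zpowers_cases D q q.2 (Finset.mem_filter.1 hq).2
    exact ⟨j, Finset.mem_univ _, Subtype.ext hj⟩

theorem inner_phi {χ : G → ℂ} (hχ : IsClassFunction G χ) : classInner χ (phi c p) = tot χ c p / 2 := by
  classical
  have hp0 : (p : ℂ) ≠ 0 := Nat.cast_ne_zero.2 D.prime.ne_zero
  rw [phi, classInner_indFun_right _ _ _ hχ, classInner, tot, Nat.card_zpowers, D.ord]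
  have e : ∀ q : Subgroup.zpowers c, χ q * conj (if (q : G) = 1 then 0 else (p : ℂ) / 2) =
      if (q : G) = 1 then 0 else χ q * ((p : ℂ) / 2) := fun q => by
    split_ifs <;> simp [map_ofNat]
  rw [Finset.sum_congr rfl fun q _ => e q, sum_zpowers D (fun g => χ g * ((p : ℂ) / 2)), ← Finset.sum_mul]
  field_simp

theorem phi_eq_zero {g : G} (hg : ∀ x : G, x⁻¹ * g * x ∈ Subgroup.zpowers c → x⁻¹ * g * x = 1) :
    phi c p g = 0 := by
  classical
  rw [phi, indFun]
  refine mul_eq_zero_of_right _ (Finset.sum_eq_zero fun x _ => ?_)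
  by_cases h : x⁻¹ * g * x ∈ Subgroup.zpowers c
  · rw [extendByZero_mem _ _ h]
    simp [hg x h]
  · exact extendByZero_not_mem _ _ h

theorem phi_one : phi c p 1 = 0 := phi_eq_zero D fun x _ => by group

theorem phi_pow (j : (ZMod p)ˣ) : phi c p (c ^ (j : ZMod p).val) = p := by
  classical
  have hp0 : (p : ℂ) ≠ 0 := Nat.cast_ne_zero.2 D.prime.ne_zero
  set g := c ^ (j : ZMod p).val with hg
  have hgQ : g ∈ Subgroup.zpowers c := Subgroup.npow_mem_zpowers c _
  have hgen : Subgroup.zpowers g = Subgroup.zpowers c := by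
    refine Subgroup.eq_of_le_of_card_ge (Subgroup.zpowers_le.2 hgQ) ?_
    rw [Nat.card_zpowers, Nat.card_zpowers, D.ord]
    exact (orderOf_eq_prime (x := g) (p := p) (by
      rw [hg, ← pow_mul, mul_comm, pow_mul, show c ^ p = 1 by have := pow_orderOf_eq_one c; rwa [D.ord] at this, one_pow]) (pow_unit_ne_one D j)).ge
  set N := Subgroup.normalizer ((Subgroup.zpowers c : Subgroup G) : Set G)
  have hiff : ∀ x : G, x⁻¹ * g * x ∈ Subgroup.zpowers c ↔ x ∈ N := by
    intro x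
    constructor
    · intro h
      have h1 : ∀ y ∈ Subgroup.zpowers c, x⁻¹ * y * x ∈ Subgroup.zpowers c := by
        intro y hy
        rw [← hgen] at hy
        obtain ⟨n, rfl⟩ := hy
        have := Subgroup.zpow_mem _ h n
        rwa [show x⁻¹ * g * x = x⁻¹ * g * x⁻¹⁻¹ by group, conj_zpow, inv_inv] at this
      have h2 : x⁻¹ ∈ N := by
        rw [Subgroup.mem_normalizer_iff_map_conj_eq]
        refine Subgroup.eq_of_le_of_card_ge ?_ (by rw [Subgroup.card_map_of_injective (MulEquiv.injective _)])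
        rintro _ ⟨y, hy, rfl⟩
        simpa using h1 y hy
      simpa using N.inv_mem h2
    · intro h
      have := (Subgroup.mem_normalizer_iff.1 (N.inv_mem h) g).1 hgQ
      simpa using this
  rw [phi, indFun, Nat.card_zpowers, D.ord]
  have e : ∀ x : G, extendByZero (Subgroup.zpowers c)
      (fun q : Subgroup.zpowers c => if (q : G) = 1 then 0 else (p : ℂ) / 2) (x⁻¹ * g * x) =
      if x ∈ N then (p : ℂ) / 2 else 0 := by
    intro x
    by_cases h : x ∈ N
    · rw [extendByZero_mem _ _ ((hiff x).2 h), if_pos h, if_neg]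
      intro h1
      refine pow_unit_ne_one D j ?_
      calc g = x * (x⁻¹ * g * x) * x⁻¹ := by group
        _ = 1 := by rw [show x⁻¹ * g * x = 1 from h1]; group
    · rw [extendByZero_not_mem _ _ (fun hc => h ((hiff x).1 hc)), if_neg h]
  rw [Finset.sum_congr rfl fun x _ => e x, Finset.sum_ite, Finset.sum_const, Finset.sum_const_zero, add_zero,
    ← Fintype.card_subtype, ← Nat.card_eq_fintype_card, show Nat.card {x // x ∈ N} = 2 * p from D.norm]
  simp only [nsmul_eq_mul, Nat.cast_mul, Nat.cast_ofNat]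
  field_simp

theorem tot_of_const {χ : G → ℂ} {a : ℂ} (h : ∀ j : (ZMod p)ˣ, χ (c ^ (j : ZMod p).val) = a) :
    tot χ c p = ((p : ℂ) - 1) * a := by
  rw [tot, Finset.sum_congr rfl fun j _ => h j, Finset.sum_const, Finset.card_univ, ZMod.card_units,
    nsmul_eq_mul, Nat.cast_sub D.prime.one_lt.le, Nat.cast_one]

theorem inner_phi_self : classInner (phi c p) (phi c p) = ((p : ℂ) - 1) * p / 2 := by
  rw [inner_phi D (χ := phi c p) (by unfold phi; exact isClassFunction_indFun _ _), tot_of_const D (fun j => phi_pow D j)]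

theorem exists_coprime_lift (k : (ZMod p)ˣ) : ∃ a : ℕ, (Nat.card G).Coprime a ∧ (a : ZMod p) = k := by
  haveI : NeZero (Nat.card G) := ⟨Nat.card_pos.ne'⟩
  have hd : p ∣ Nat.card G := D.ord ▸ orderOf_dvd_natCard c
  obtain ⟨u, hu⟩ := ZMod.unitsMap_surjective hd k
  refine ⟨(u : ZMod (Nat.card G)).val, Nat.Coprime.symm (ZMod.val_coe_unit_coprime u), ?_⟩
  rw [← hu, ZMod.unitsMap_val, ZMod.cast_eq_val]

theorem val_tw (χ : IrrCharacter G) {a : ℕ} (ha : (Nat.card G).Coprime a) (k j : (ZMod p)ˣ)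
    (hk : (a : ZMod p) = k) : val' (tw χ ha : G → ℂ) c j = val' (χ : G → ℂ) c (j * k) := by
  rw [val', val', tw_apply, ← pow_mul]
  refine congrArg (χ : G → ℂ) (pow_cast D ?_)
  rw [Nat.cast_mul, ZMod.natCast_zmod_val, ZMod.natCast_zmod_val, hk, Units.val_mul]

theorem tot_eq_sum (χ : G → ℂ) : tot χ c p = ∑ j : (ZMod p)ˣ, val' χ c j := rfl

theorem tot_rat (χ : IrrCharacter G) : ∃ a : ℤ, tot (χ : G → ℂ) c p = a := by
  classical
  obtain ⟨n, hn⟩ := classInner_isCharacter (G := Subgroup.zpowers c)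
    (isCharacter_comp (isCharacter_irr χ) (Subgroup.zpowers c).subtype) (isCharacter_of_isIrr isIrrCharacter_one)
  obtain ⟨d, hd⟩ := isCharacter_degree (isCharacter_irr χ)
  refine ⟨(p : ℤ) * n - d, ?_⟩
  rw [classInner, Nat.card_zpowers, D.ord] at hn
  simp only [map_one, mul_one] at hn
  have hsplit : ∑ q : Subgroup.zpowers c, (χ : G → ℂ) q = (χ : G → ℂ) 1 + tot (χ : G → ℂ) c p := by
    have h1 : ∀ q : Subgroup.zpowers c, (χ : G → ℂ) q = (if q = 1 then (χ : G → ℂ) q else 0) +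
        (if (q : G) = 1 then 0 else (χ : G → ℂ) q) := fun q => by
      by_cases hq : q = 1
      · simp [hq]
      · have hq' : (q : G) ≠ 1 := fun h => hq (Subtype.ext h)
        simp [hq, hq']
    rw [Finset.sum_congr rfl fun q _ => h1 q, Finset.sum_add_distrib, Finset.sum_ite_eq',
      if_pos (Finset.mem_univ _), sum_zpowers D (χ : G → ℂ)]
    rfl
  have hn' : ∑ q : Subgroup.zpowers c, (χ : G → ℂ) q = (p : ℂ) * n := by
    rw [← hn, ← mul_assoc, mul_inv_cancel₀ (Nat.cast_ne_zero.2 D.prime.ne_zero), one_mul]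
    rfl
  rw [hsplit, hd] at hn'
  push_cast
  linear_combination hn'

/-- The stabiliser of the values on the powers. -/
def fixUnits (χ : IrrCharacter G) (c : G) (p : ℕ) [Fact p.Prime] : Subgroup (ZMod p)ˣ where
  carrier := {k | ∀ j, val' (χ : G → ℂ) c (j * k) = val' (χ : G → ℂ) c j}
  mul_mem' := fun {a b} ha hb j => by rw [← mul_assoc, hb (j * a), ha j]
  one_mem' := fun j => by rw [mul_one]
  inv_mem' := fun {a} ha j => by rw [← ha (j * a⁻¹), inv_mul_cancel_right]

theorem neg_one_mem (χ : IrrCharacter G) : (-1 : (ZMod p)ˣ) ∈ fixUnits χ c p := by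
  intro j
  obtain ⟨t, ht⟩ := D.refl
  have h1 : c ^ ((-1 : (ZMod p)ˣ) * j : ZMod p).val = t * c ^ (j : ZMod p).val * t⁻¹ := by
    rw [← conj_pow, ht, inv_pow, eq_inv_iff_mul_eq_one, ← pow_add,
      pow_cast D (b := 0) (by simp), pow_zero]
  rw [val', val', mul_comm j, show (((-1 : (ZMod p)ˣ) * j : (ZMod p)ˣ) : ZMod p) =
    ((-1 : (ZMod p)ˣ) : ZMod p) * (j : ZMod p) from rfl, h1]
  exact isClassFunction_irr χ _ _

omit D in
theorem even_card_fix {H : Subgroup (ZMod p)ˣ} (hp : p ≠ 2) (h : (-1 : (ZMod p)ˣ) ∈ H) : 2 ∣ Nat.card H := by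
  have hne : (-1 : (ZMod p)ˣ) ≠ 1 := fun e => by
    have e' : (-1 : ZMod p) = 1 := congrArg Units.val e
    haveI : Fact (2 < p) := ⟨lt_of_le_of_ne (Fact.out : p.Prime).two_le (Ne.symm hp)⟩
    exact ZMod.neg_one_ne_one e'
  have h2 : orderOf (⟨-1, h⟩ : H) = 2 := orderOf_eq_prime (Subtype.ext (by simp)) fun e => hne (congrArg Subtype.val e)
  exact h2 ▸ orderOf_dvd_natCard _

/-- The sum is a multiple of the order of the stabiliser. -/
theorem tot_dvd (χ : IrrCharacter G) : ∃ z : ℤ, tot (χ : G → ℂ) c p = (Nat.card (fixUnits χ c p) : ℂ) * z := by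
  classical
  set H := fixUnits χ c p
  haveI := Fintype.ofFinite H
  haveI := Fintype.ofFinite ((ZMod p)ˣ ⧸ H)
  have e1 : tot (χ : G → ℂ) c p = (Nat.card H : ℂ) * ∑ q : (ZMod p)ˣ ⧸ H, val' (χ : G → ℂ) c q.out := by
    have hb : Function.Bijective fun x : ((ZMod p)ˣ ⧸ H) × H => x.1.out * (x.2 : (ZMod p)ˣ) := by
      refine ⟨fun x y e => ?_, fun j => ⟨(QuotientGroup.mk j, ⟨(QuotientGroup.mk (s := H) j).out⁻¹ * j,
        QuotientGroup.eq.1 (QuotientGroup.out_eq' _)⟩), mul_inv_cancel_left _ _⟩⟩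
      have e' : x.1.out * (x.2 : (ZMod p)ˣ) = y.1.out * (y.2 : (ZMod p)ˣ) := e
      have e1 : x.1 = y.1 := by
        rw [← QuotientGroup.out_eq' x.1, ← QuotientGroup.out_eq' y.1, QuotientGroup.eq]
        rw [show x.1.out⁻¹ * y.1.out = (x.2 : (ZMod p)ˣ) * (y.2 : (ZMod p)ˣ)⁻¹ by
          rw [eq_mul_inv_iff_mul_eq, mul_assoc, ← e', inv_mul_cancel_left]]
        exact mul_mem x.2.2 (inv_mem y.2.2)
      refine Prod.ext e1 (Subtype.ext ?_)
      rw [e1] at e'
      exact mul_left_cancel e'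
    rw [tot_eq_sum D, ← Equiv.sum_comp (Equiv.ofBijective _ hb), Fintype.sum_prod_type, Finset.mul_sum]
    refine Finset.sum_congr rfl fun q _ => ?_
    have : ∀ h : H, val' (χ : G → ℂ) c (Equiv.ofBijective _ hb (q, h)) =
        val' (χ : G → ℂ) c q.out := fun h => h.2 q.out
    rw [Finset.sum_congr rfl fun h _ => this h, Finset.sum_const, Finset.card_univ, nsmul_eq_mul,
      Nat.card_eq_fintype_card]
  have hint : IsIntegral ℤ (∑ q : (ZMod p)ˣ ⧸ H, val' (χ : G → ℂ) c q.out) :=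
    IsIntegral.sum _ fun q _ => isCharacter_isIntegral (isCharacter_irr χ) _
  obtain ⟨a, ha⟩ := tot_rat D χ
  have hH : (Nat.card H : ℂ) ≠ 0 := Nat.cast_ne_zero.2 Nat.card_pos.ne'
  have e2 : ∑ q : (ZMod p)ˣ ⧸ H, val' (χ : G → ℂ) c q.out = (((a : ℚ) / Nat.card H : ℚ) : ℂ) := by
    push_cast
    rw [eq_div_iff hH, mul_comm, ← e1, ha]
  rw [e2] at hint
  obtain ⟨z, hz⟩ := int_of_rat_integral hint
  exact ⟨z, by rw [e1, e2, hz]; simp⟩

theorem tot_tw (χ : IrrCharacter G) {a : ℕ} (ha : (Nat.card G).Coprime a) (k : (ZMod p)ˣ)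
    (hk : (a : ZMod p) = k) : tot (tw χ ha : G → ℂ) c p = tot (χ : G → ℂ) c p := by
  rw [tot_eq_sum D, tot_eq_sum D, Finset.sum_congr rfl fun j _ => val_tw D χ ha k j hk]
  exact Equiv.sum_comp (Equiv.mulRight k) fun j => val' (χ : G → ℂ) c j

/-- The determination. -/
theorem rational_eq {m : ℕ} (hm : p = 2 * m + 1) {ρ : IrrCharacter G}
    (hρc : ∀ j : (ZMod p)ˣ, (ρ : G → ℂ) (c ^ (j : ZMod p).val) = -1)
    (hρ1 : (ρ : G → ℂ) 1 = 2 * (m : ℂ)) {Ψ : G → ℂ} (hΨ : IsCharacter G Ψ)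
    (hΨc : ∀ j : (ZMod p)ˣ, Ψ (c ^ (j : ZMod p).val) = 1) (hΨ1 : Ψ 1 = (m : ℂ) * (2 * m - 1))
    (hΨt : ∀ (a : ℕ), (Nat.card G).Coprime a → ∀ g, Ψ (g ^ a) = Ψ g)
    (hΨo : classInner Ψ (fun _ => 1) = 0) [Fintype (IrrCharacter G)] :
    (∀ g, Ψ g = phi c p g - m + m * (ρ : G → ℂ) g) ∧
      ∃ (χ₀ : IrrCharacter G) (O : Finset (IrrCharacter G)), O.card = m ∧
        (∀ χ ∈ O, (χ : G → ℂ) 1 = 2 * (m : ℂ) - 1) ∧
        (∀ χ ∈ O, ∃ a : ℕ, (Nat.card G).Coprime a ∧ ∀ x, (χ : G → ℂ) x = (χ₀ : G → ℂ) (x ^ a)) ∧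
        (∀ x, phi c p x = (m : ℂ) - m * (ρ : G → ℂ) x + ∑ χ ∈ O, (χ : G → ℂ) x) ∧
        ∀ w : IrrCharacter G → ℂ, ∑ χ : IrrCharacter G, w χ * classInner (χ : G → ℂ) (phi c p) =
          (m : ℂ) * w ⟨fun _ => 1, isIrrCharacter_one⟩ - m * w ρ + ∑ χ ∈ O, w χ := by
  classical
  have hm1 : 1 ≤ m := by
    have := D.two
    have := D.prime.two_le
    omega
  have hmC : (m : ℂ) ≠ 0 := Nat.cast_ne_zero.2 (by omega)
  set one : IrrCharacter G := ⟨fun _ => 1, isIrrCharacter_one⟩ with hone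
  have hρne : ρ ≠ one := fun e => by
    have h1 := hρc 1
    rw [e] at h1
    norm_num [hone] at h1
  -- integral coefficients
  have hC : ∀ χ : IrrCharacter G, ∃ z : ℤ, classInner (χ : G → ℂ) (phi c p) = z := fun χ => by
    obtain ⟨z, hz⟩ := tot_dvd D χ
    obtain ⟨k, hk⟩ := even_card_fix D.two (neg_one_mem D χ)
    refine ⟨(k : ℤ) * z, ?_⟩
    rw [inner_phi D (isClassFunction_irr χ), hz, hk]
    push_cast
    ring
  choose cf hcf using hC
  have hφ : phi c p = ∑ χ : IrrCharacter G, (cf χ : ℂ) • (χ : G → ℂ) := by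
    conv_lhs => rw [classFun_expand (f := phi c p) (isClassFunction_indFun _ _)]
    refine Finset.sum_congr rfl fun χ _ => ?_
    rw [← classInner_conj, hcf, map_intCast]
  have hnorm : ∑ χ : IrrCharacter G, cf χ ^ 2 = (p : ℤ) * m := by
    have h : ∀ χ : IrrCharacter G, ((cf χ : ℂ) * (χ : G → ℂ) 1) = ((cf χ : ℂ) * (χ : G → ℂ) 1) := fun _ => rfl
    have h2 := inner_phi_self D
    conv at h2 =>
      lhs
      arg 2
      rw [hφ]
    rw [classInner_sum_right] at h2
    simp only [classInner_smul_right, map_intCast] at h2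
    have h3 : ∀ χ : IrrCharacter G, classInner (phi c p) (χ : G → ℂ) = (cf χ : ℂ) := fun χ => by
      rw [← classInner_conj, hcf, map_intCast]
    simp only [h3] at h2
    have h4 : ((∑ χ : IrrCharacter G, cf χ ^ 2 : ℤ) : ℂ) = (((p : ℤ) * m : ℤ) : ℂ) := by
      push_cast
      simp only [sq]
      rw [h2, hm]
      push_cast
      ring
    exact_mod_cast h4
  have hcone : cf one = m := by
    have h := hcf one
    rw [inner_phi D (isClassFunction_irr one), tot_of_const D (a := 1) (fun j => rfl), hm] at h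
    have h' : ((cf one : ℤ) : ℂ) = ((m : ℤ) : ℂ) := by rw [← h]; push_cast; ring
    exact_mod_cast h'
  have hcρ : cf ρ = -(m : ℤ) := by
    have h := hcf ρ
    rw [inner_phi D (isClassFunction_irr ρ), tot_of_const D hρc, hm] at h
    have h' : ((cf ρ : ℤ) : ℂ) = ((-(m : ℤ) : ℤ) : ℂ) := by rw [← h]; push_cast; ring
    exact_mod_cast h'
  set rest := (Finset.univ : Finset (IrrCharacter G)) \ {one, ρ} with hrest
  have hsum : ∀ {M : Type} [AddCommMonoid M] (F : IrrCharacter G → M),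
      ∑ χ : IrrCharacter G, F χ = F one + F ρ + ∑ χ ∈ rest, F χ := by
    intro M _ F
    rw [hrest, ← Finset.sum_pair (Ne.symm hρne) (f := F), Finset.sum_add_sum_compl _ F |>.symm]
    rw [Finset.compl_eq_univ_sdiff]
  have hrest2 : ∑ χ ∈ rest, cf χ ^ 2 = m := by
    have h := hsum (fun χ => cf χ ^ 2)
    rw [hnorm, hcone, hcρ, hm] at h
    push_cast at h
    linarith
  obtain ⟨χ₀, hχ₀, hne⟩ : ∃ χ ∈ rest, cf χ ≠ 0 := by
    by_contra hc
    push_neg at hc
    rw [Finset.sum_eq_zero fun χ hχ => by rw [hc χ hχ]; simp] at hrest2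
    omega
  -- the orbit of twists
  set H := fixUnits χ₀ c p with hH
  haveI := Fintype.ofFinite ((ZMod p)ˣ ⧸ H)
  choose lift hl1 hl2 using fun q : (ZMod p)ˣ ⧸ H => exists_coprime_lift D q.out
  set orbF : (ZMod p)ˣ ⧸ H → IrrCharacter G := fun q => tw χ₀ (hl1 q) with horbF
  have hinj : Function.Injective orbF := by
    intro q q' e
    rw [← QuotientGroup.out_eq' q, ← QuotientGroup.out_eq' q', QuotientGroup.eq]
    intro j
    have h1 := congrArg (fun χ : IrrCharacter G => val' (χ : G → ℂ) c (j * q.out⁻¹)) e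
    simp only [horbF, val_tw D χ₀ _ _ _ (hl2 _)] at h1
    rw [inv_mul_cancel_right] at h1
    rw [h1, mul_assoc]
  have hcorb : ∀ q, cf (orbF q) = cf χ₀ := fun q => by
    have h1 := hcf (orbF q)
    rw [inner_phi D (isClassFunction_irr _), tot_tw D χ₀ (hl1 q) _ (hl2 q),
      ← inner_phi D (isClassFunction_irr χ₀), hcf] at h1
    exact_mod_cast h1.symm
  set O := Finset.univ.image orbF with hO
  have hOrest : O ⊆ rest := by
    intro χ hχ
    obtain ⟨q, -, rfl⟩ := Finset.mem_image.1 hχ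
    simp only [hrest, Finset.mem_sdiff, Finset.mem_univ, true_and, Finset.mem_insert, Finset.mem_singleton]
    rintro (e | e)
    · have h0 : (χ₀ : G → ℂ) = fun _ => 1 := funext fun g => by
        have hb : Function.Surjective fun x : G => x ^ lift q :=
          (powCoprime (hl1 q)).surjective
        obtain ⟨x, rfl⟩ := hb g
        exact congrFun (congrArg Subtype.val e) x
      have : χ₀ = one := Subtype.ext h0
      rw [hrest, this] at hχ₀
      simp at hχ₀
    · have hb : Function.Surjective fun x : G => x ^ lift q := (powCoprime (hl1 q)).surjective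
      have h1 : ∀ j : (ZMod p)ˣ, val' (χ₀ : G → ℂ) c j = -1 := fun j => by
        have h2 := val_tw D χ₀ (hl1 q) q.out (j * q.out⁻¹) (hl2 q)
        rw [inv_mul_cancel_right] at h2
        rw [← h2, show (tw χ₀ (hl1 q) : G → ℂ) = (ρ : G → ℂ) from congrArg Subtype.val e]
        exact hρc _
      have htop : H = ⊤ := eq_top_iff.2 fun k _ j => by rw [h1, h1]
      have hq : ∀ q' : (ZMod p)ˣ ⧸ H, cf χ₀ = -(m : ℤ) := fun q' => by rw [← hcorb q, e, hcρ]
      have hle : cf χ₀ ^ 2 ≤ (m : ℤ) := hrest2 ▸ Finset.single_le_sum (fun ξ _ => sq_nonneg (cf ξ)) hχ₀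
      rw [hq q] at hle
      have hm' : m = 1 := by
        by_contra hne'
        have : (2 : ℤ) ≤ m := by omega
        nlinarith
      -- then there is a single coset and the twist is trivial on the powers
      have hp3 : p = 3 := by omega
      have hχd : (χ₀ : G → ℂ) 1 = (ρ : G → ℂ) 1 := by
        rw [← congrArg (fun ξ : IrrCharacter G => (ξ : G → ℂ) 1) e]
        show _ = (χ₀ : G → ℂ) (1 ^ lift q)
        rw [one_pow]
      have hφ1 := congrFun hφ 1
      rw [phi_one D, Finset.sum_apply] at hφ1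
      simp only [Pi.smul_apply, smul_eq_mul] at hφ1
      have hs := hsum (fun ξ : IrrCharacter G => (cf ξ : ℂ) * (ξ : G → ℂ) 1)
      rw [← hφ1, ← Finset.sum_erase_add rest _ hχ₀] at hs
      have hz : ∀ ξ ∈ rest.erase χ₀, cf ξ = 0 := fun ξ hξ => by
        have hs2 := Finset.sum_erase_add rest (fun ξ => cf ξ ^ 2) hχ₀
        rw [hrest2, hq q, hm'] at hs2
        have h0 : ∑ ξ ∈ rest.erase χ₀, cf ξ ^ 2 = 0 := by push_cast at hs2; linarith
        exact pow_eq_zero_iff two_ne_zero |>.1 ((Finset.sum_eq_zero_iff_of_nonneg fun ξ _ => sq_nonneg (cf ξ)).1 h0 ξ hξ)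
      rw [Finset.sum_eq_zero fun ξ hξ => by rw [hz ξ hξ]; simp, hcone, hcρ, hq q, hχd, hρ1, hm'] at hs
      norm_num [hone] at hs
  have hOcard : O.card = Nat.card ((ZMod p)ˣ ⧸ H) := by
    rw [hO, Finset.card_image_of_injective _ hinj, Finset.card_univ, Nat.card_eq_fintype_card]
  have hOval : ∀ χ ∈ O, cf χ = cf χ₀ := by
    intro χ hχ
    obtain ⟨q, -, rfl⟩ := Finset.mem_image.1 hχ
    exact hcorb q
  have hprod : Nat.card ((ZMod p)ˣ ⧸ H) * Nat.card H = 2 * m := by
    rw [← Subgroup.card_eq_card_quotient_mul_card_subgroup, Nat.card_eq_fintype_card, ZMod.card_units]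
    omega
  obtain ⟨k, hk⟩ := even_card_fix D.two (neg_one_mem D χ₀)
  obtain ⟨z, hz⟩ := tot_dvd D χ₀
  have hcz : cf χ₀ = (k : ℤ) * z := by
    have h := hcf χ₀
    rw [inner_phi D (isClassFunction_irr χ₀), hz, hk] at h
    have h' : ((cf χ₀ : ℤ) : ℂ) = (((k : ℤ) * z : ℤ) : ℂ) := by rw [← h]; push_cast; ring
    exact_mod_cast h'
  have hbud : (O.card : ℤ) * cf χ₀ ^ 2 ≤ m := by
    calc (O.card : ℤ) * cf χ₀ ^ 2 = ∑ χ ∈ O, cf χ ^ 2 := by
          rw [Finset.sum_congr rfl fun χ hχ => by rw [hOval χ hχ], Finset.sum_const, nsmul_eq_mul]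
      _ ≤ ∑ χ ∈ rest, cf χ ^ 2 := Finset.sum_le_sum_of_subset_of_nonneg hOrest fun χ _ _ => sq_nonneg _
      _ = m := hrest2
  have hrk : O.card * k = m := by
    rw [hOcard]
    rw [hH, hk] at hprod
    rw [← hH] at hprod
    linarith
  have hsq : k = 1 ∧ cf χ₀ ^ 2 = 1 := by
    have hpos : 0 < cf χ₀ ^ 2 := by positivity
    have hO0 : 0 < O.card := Nat.pos_of_ne_zero fun h => by rw [h, zero_mul] at hrk; omega
    have hk0 : 0 < k := Nat.pos_of_ne_zero fun h => by rw [h, mul_zero] at hrk; omega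
    have h1 : cf χ₀ ^ 2 ≤ k := by
      have : (m : ℤ) = O.card * k := by exact_mod_cast hrk.symm
      rw [this] at hbud
      exact le_of_mul_le_mul_left hbud (by exact_mod_cast hO0)
    have hz1 : (k : ℤ) ^ 2 ≤ cf χ₀ ^ 2 := by
      rw [hcz, mul_pow]
      have : 0 < z ^ 2 := by
        have : z ≠ 0 := fun h => hne (by rw [hcz, h, mul_zero])
        positivity
      nlinarith
    have hk1 : k = 1 := by
      by_contra h
      have : (2 : ℤ) ≤ k := by omega
      nlinarith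
    refine ⟨hk1, ?_⟩
    rw [hk1] at h1
    push_cast at h1
    omega
  have hOm : O.card = m := by rw [hsq.1, mul_one] at hrk; exact hrk
  have hzero : ∀ χ ∈ rest, χ ∉ O → cf χ = 0 := by
    intro χ hχ hχO
    have h1 := Finset.sum_sdiff hOrest (f := fun ξ => cf ξ ^ 2)
    rw [hrest2, Finset.sum_congr rfl (s₁ := O) fun ξ hξ => by rw [hOval ξ hξ, hsq.2], Finset.sum_const, hOm] at h1
    simp only [nsmul_eq_mul, mul_one, add_eq_right] at h1
    exact pow_eq_zero_iff two_ne_zero |>.1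
      ((Finset.sum_eq_zero_iff_of_nonneg fun ξ _ => sq_nonneg (cf ξ)).1 h1 χ (Finset.mem_sdiff.2 ⟨hχ, hχO⟩))
  have hφ' : ∀ x : G, phi c p x = (m : ℂ) - m * (ρ : G → ℂ) x + (cf χ₀ : ℂ) * ∑ χ ∈ O, (χ : G → ℂ) x := by
    intro x
    have h1 := congrFun hφ x
    rw [Finset.sum_apply] at h1
    simp only [Pi.smul_apply, smul_eq_mul] at h1
    rw [h1, hsum (fun χ => (cf χ : ℂ) * (χ : G → ℂ) x), hcone, hcρ, Finset.mul_sum,
      ← Finset.sum_subset hOrest (fun χ hχ hχO => by rw [hzero χ hχ hχO]; simp)]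
    rw [Finset.sum_congr rfl fun χ hχ => by rw [hOval χ hχ]]
    push_cast
    simp [hone]
    ring
  -- the degrees
  obtain ⟨d, hd0, hd⟩ := isIrrCharacter_degree χ₀.2
  have hOd : ∀ χ ∈ O, (χ : G → ℂ) 1 = (d : ℂ) := by
    intro χ hχ
    obtain ⟨q, -, rfl⟩ := Finset.mem_image.1 hχ
    rw [horbF]
    show (χ₀ : G → ℂ) (1 ^ lift q) = _
    rw [one_pow, hd]
  have hdeg := hφ' 1
  rw [phi_one D, hρ1, Finset.sum_congr rfl hOd, Finset.sum_const, hOm, nsmul_eq_mul] at hdeg
  have hcd : cf χ₀ * d = 2 * (m : ℤ) - 1 := by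
    have e : ((cf χ₀ * d : ℤ) : ℂ) * m = ((2 * (m : ℤ) - 1 : ℤ) : ℂ) * m := by
      push_cast
      linear_combination -hdeg
    exact_mod_cast mul_right_cancel₀ hmC e
  have hcf1 : cf χ₀ = 1 := by
    rcases sq_eq_one_iff.1 hsq.2 with h | h
    · exact h
    · rw [h] at hcd
      have : (1 : ℤ) ≤ m := by exact_mod_cast hm1
      nlinarith
  have hdval : (d : ℂ) = 2 * (m : ℂ) - 1 := by
    rw [hcf1, one_mul] at hcd
    exact_mod_cast hcd
  refine ⟨fun g => ?_, χ₀, O, hOm, fun χ hχ => by rw [hOd χ hχ, hdval], fun χ hχ => ?_, fun x => ?_, fun w => ?_⟩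
  rotate_left
  · obtain ⟨q, -, rfl⟩ := Finset.mem_image.1 hχ
    exact ⟨lift q, hl1 q, fun _ => rfl⟩
  · rw [hφ' x, hcf1, Int.cast_one, one_mul]
  · rw [Finset.sum_congr rfl fun χ _ => by rw [hcf χ], hsum, hcone, hcρ,
      ← Finset.sum_subset hOrest (fun χ hχ hχO => by rw [hzero χ hχ hχO]; simp),
      Finset.sum_congr rfl fun χ hχ => by rw [hOval χ hχ, hcf1, Int.cast_one, mul_one]]
    push_cast
    ring
  -- the coefficients of the given character
  choose n hn using fun χ : IrrCharacter G => classInner_char_irr_nat hΨ χ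
  have hΨexp : ∀ x, Ψ x = ∑ χ : IrrCharacter G, (n χ : ℂ) * (χ : G → ℂ) x := fun x => by
    conv_lhs => rw [classFun_expand (isClassFunction_of_isCharacter hΨ)]
    rw [Finset.sum_apply]
    exact Finset.sum_congr rfl fun χ _ => by rw [Pi.smul_apply, smul_eq_mul, hn]
  have hn1 : n one = 0 := by
    have h : (n one : ℂ) = 0 := by rw [← hn]; exact hΨo
    exact_mod_cast h
  have hnorb : ∀ χ ∈ O, n χ = n χ₀ := by
    intro χ hχ
    obtain ⟨q, -, rfl⟩ := Finset.mem_image.1 hχ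
    have h1 := classInner_powMap (hl1 q) Ψ (χ₀ : G → ℂ)
    simp only [hΨt _ (hl1 q)] at h1
    have h2 : (n (orbF q) : ℂ) = (n χ₀ : ℂ) := by
      rw [← hn, ← hn]
      exact h1
    exact_mod_cast h2
  have h1 : classInner Ψ (phi c p) = (m : ℂ) := by
    rw [inner_phi D (isClassFunction_of_isCharacter hΨ), tot_of_const D hΨc, hm]
    push_cast
    ring
  have hsumphi : classInner Ψ (phi c p) = ∑ χ : IrrCharacter G, (n χ : ℂ) * (cf χ : ℂ) := by
    conv_lhs => rw [hφ]
    rw [classInner_sum_right]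
    refine Finset.sum_congr rfl fun χ _ => ?_
    rw [classInner_smul_right, map_intCast, hn, mul_comm]
  rw [hsumphi, hsum, hn1, hcρ, ← Finset.sum_subset hOrest (fun χ hχ hχO => by rw [hzero χ hχ hχO]; simp),
    Finset.sum_congr rfl fun χ hχ => by rw [hnorb χ hχ, hOval χ hχ, hcf1], Finset.sum_const, hOm] at h1
  have hn0 : (n χ₀ : ℤ) = 1 + n ρ := by
    have e : (((n χ₀ : ℤ)) : ℂ) * m = (((1 : ℤ) + n ρ : ℤ) : ℂ) * m := by
      push_cast at h1 ⊢
      simp only [nsmul_eq_mul] at h1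
      linear_combination h1
    exact_mod_cast mul_right_cancel₀ hmC e
  -- compare degrees
  have hdegs : ∀ χ : IrrCharacter G, ∃ e : ℕ, 0 < e ∧ (χ : G → ℂ) 1 = e := fun χ => isIrrCharacter_degree χ.2
  choose e he0 he using hdegs
  have hdegΨ : (∑ χ : IrrCharacter G, n χ * e χ : ℕ) = m * (2 * m - 1) := by
    have h := hΨexp 1
    rw [hΨ1] at h
    have h' : ((∑ χ : IrrCharacter G, n χ * e χ : ℕ) : ℂ) = ((m * (2 * m - 1) : ℕ) : ℂ) := by
      rw [Nat.cast_sum, Nat.cast_mul, Nat.cast_sub (by omega)]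
      push_cast
      rw [h]
      exact Finset.sum_congr rfl fun χ _ => by rw [he]
    exact_mod_cast h'
  have heO : ∀ χ ∈ O, e χ = 2 * m - 1 := fun χ hχ => by
    have h : ((e χ : ℕ) : ℂ) = ((2 * m - 1 : ℕ) : ℂ) := by
      rw [← he, hOd χ hχ, hdval, Nat.cast_sub (by omega)]
      push_cast
      rfl
    exact_mod_cast h
  rw [hsum (fun χ => n χ * e χ), hn1, zero_mul, zero_add, ← Finset.sum_sdiff hOrest,
    Finset.sum_congr rfl (s₁ := O) fun χ hχ => by rw [hnorb χ hχ, heO χ hχ], Finset.sum_const, hOm,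
    smul_eq_mul] at hdegΨ
  have hn0' : n χ₀ = 1 + n ρ := by omega
  have hnρ : n ρ = 0 := by
    by_contra hc
    have h2 : 2 * (2 * m - 1) ≤ n χ₀ * (2 * m - 1) := Nat.mul_le_mul_right _ (by omega)
    have h3 := Nat.mul_le_mul_left m h2
    have : 0 < m * (2 * m - 1) := Nat.mul_pos hm1 (by omega)
    rw [Nat.mul_left_comm] at h3
    omega
  rw [hnρ, zero_mul, zero_add, hn0', hnρ, Nat.add_zero, one_mul] at hdegΨ
  have hrest0 : ∀ χ ∈ rest, χ ∉ O → n χ = 0 := fun χ hχ hχO => by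
    have h := (Finset.sum_eq_zero_iff.1 (show ∑ ξ ∈ rest \ O, n ξ * e ξ = 0 by omega)) χ
      (Finset.mem_sdiff.2 ⟨hχ, hχO⟩)
    exact (mul_eq_zero.1 h).resolve_right (he0 χ).ne'
  rw [hΨexp g, hsum, hn1, hnρ, ← Finset.sum_subset hOrest (fun χ hχ hχO => by rw [hrest0 χ hχ hχO]; simp),
    Finset.sum_congr rfl fun χ hχ => by rw [hnorb χ hχ, hn0', hnρ], hφ' g, hcf1]
  push_cast
  simp only [zero_mul, zero_add, one_mul, add_zero]
  ring

end CfsgLib.Char.PrimeDegreeTwoP
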